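import Groth.Agent.NewIntersectLib.Module
import Groth.Agent.CommAlgDim.GlobalDim
import Groth.Agent.S6292

/-!
# Zero divisors: regular elements on modules of finite projective dimension
-/

set_option autoImplicit false
universe u

open CategoryTheory IsLocalRing RingTheory.Sequence
open scoped Pointwise TensorProduct

namespace Groth.Agent.NewIntersectLib

variable {A : Type u} [CommRing A] [IsLocalRing A] [IsNoetherianRing A]

theorem depth_quot_succ_le {a : A} (ha : a ∈ maximalIdeal A) (haR : IsSMulRegular A a)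
    [IsLocalRing (A ⧸ Ideal.span {a})] {d e : ℕ} (hd : LocCoh.depth A A = d)
    (he : (e : ℕ∞) ≤ LocCoh.depth (A ⧸ Ideal.span {a}) (A ⧸ Ideal.span {a})) : e + 1 ≤ d := by
  rw [CommAlgDim.le_depth_iff] at he
  obtain ⟨rs, hl, hm, hr⟩ := he
  choose f hf using Ideal.Quotient.mk_surjective (I := Ideal.span {a})
  have hsub : (a • (⊤ : Submodule A A)) = Ideal.span {a} := by
    rw [← Submodule.ideal_span_singleton_smul, smul_eq_mul, Ideal.mul_top]
  have hseq : CommAlgDim.HasSeqIn (maximalIdeal A) (QuotSMulTop a A) e := by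
    refine ⟨rs.map f, by simpa using hl, fun r hr' => ?_, ?_⟩
    · obtain ⟨r, hr1, rfl⟩ := List.mem_map.1 hr'
      intro hu
      refine hm r hr1 ?_
      rw [← hf r]
      exact hu.map (Ideal.Quotient.mk _)
    · refine (AddEquiv.isWeaklyRegular_congr (e := (Submodule.quotEquivOfEq _ _ hsub).toAddEquiv) ?_).2 hr
      rw [List.forall₂_map_left_iff, List.forall₂_same]
      intro r _ m
      obtain ⟨m, rfl⟩ := Submodule.Quotient.mk_surjective _ m
      show Ideal.Quotient.mk _ (f r * m) = r * Ideal.Quotient.mk _ m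
      rw [map_mul, hf]
  have h1 : ((e + 1 : ℕ) : ℕ∞) ≤ LocCoh.depth A A :=
    (CommAlgDim.le_depth_iff _).2 (CommAlgDim.hasSeqIn_succ_of_cons ha haR hseq)
  rw [hd, Nat.cast_le] at h1
  exact h1

/-- projective dimension at most the depth -/
theorem pdlt_depth_succ (M : Type u) [AddCommGroup M] [Module A M] [Module.Finite A M] {d : ℕ}
    (hd : LocCoh.depth A A = d) (n : ℕ) (hn : CommAlgDim.PDLT A M n) : CommAlgDim.PDLT A M (d + 1) := by
  have key : ∀ i, CommAlgDim.PDLT A M (d + 1 + i) → CommAlgDim.PDLT A M (d + 1) := by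
    intro i
    induction i with
    | zero => exact id
    | succ i ih =>
      intro hi
      apply ih
      rw [show d + 1 + i = (d + i) + 1 by omega]
      exact pd_drop M hd (d + i) (by omega) (by rwa [show d + i + 2 = d + 1 + (i + 1) by omega])
  exact key n (hn.mono (by omega))

/-- positive depth of the module lowers the projective dimension below the depth of the ring -/
theorem pdlt_depth (M : Type u) [AddCommGroup M] [Module A M] [Module.Finite A M] [Nontrivial M] {d : ℕ}
    (hd : LocCoh.depth A A = d) (n : ℕ) (hn : CommAlgDim.PDLT A M n) {x : A} (hx : x ∈ maximalIdeal A)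
    (hxM : IsSMulRegular M x) : 0 < d ∧ CommAlgDim.PDLT A M d := by
  classical
  have h1 := pdlt_depth_succ M hd n hn
  cases d with
  | zero =>
    exfalso
    haveI := CommAlgDim.pdlt_one_iff.1 h1
    haveI : Module.Free A M := Module.free_of_flat_of_isLocalRing
    obtain ⟨i⟩ := (Module.Free.chooseBasis A M).index_nonempty
    obtain ⟨rs, hl, -, z, hz, hzm⟩ := MinimalCxLib.exists_socle hd
    rw [List.length_eq_zero_iff] at hl
    subst hl
    rw [Ideal.ofList_nil, Ideal.mem_bot] at hz
    apply hz
    have h0 : x • (z • Module.Free.chooseBasis A M i) = x • (0 : M) := by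
      have := hzm x hx
      rw [Ideal.ofList_nil, Ideal.mem_bot] at this
      rw [smul_smul, mul_comm, this, zero_smul, smul_zero]
    have := congrArg (fun v => (Module.Free.chooseBasis A M).repr v i) (hxM h0)
    simpa using this
  | succ e =>
    refine ⟨Nat.succ_pos e, ?_⟩
    obtain ⟨a, ha, hreg⟩ : ∃ a ∈ maximalIdeal A, IsSMulRegular (M × A) a := by
      refine CommAlgDim.exists_isSMulRegular_mem fun q hq => ?_
      rw [associatedPrimes.prod] at hq
      rcases hq with hq | hq
      · exact CommAlgDim.notLe_of_isSMulRegular hx hxM q hq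
      · exact (CommAlgDim.hasSeqIn_one_iff _).1
          ((CommAlgDim.le_depth_iff 1).1 (by rw [hd]; exact_mod_cast Nat.succ_pos e)) q hq
    have haM : IsSMulRegular M a := fun v w h =>
      congrArg Prod.fst (hreg (show a • ((v, 0) : M × A) = a • (w, 0) from Prod.ext h rfl))
    have haR : IsSMulRegular A a := fun v w h =>
      congrArg Prod.snd (hreg (show a • ((0, v) : M × A) = a • (0, w) from Prod.ext rfl h))
    haveI : Nontrivial (A ⧸ Ideal.span {a}) := Ideal.Quotient.nontrivial_iff.mpr
      (ne_top_of_le_ne_top (maximalIdeal.isMaximal A).ne_top ((Ideal.span_singleton_le_iff_mem _).2 ha))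
    haveI : IsLocalRing (A ⧸ Ideal.span {a}) := IsLocalRing.of_surjective' _ Ideal.Quotient.mk_surjective
    haveI : Module.Finite (A ⧸ Ideal.span {a}) (QuotSMulTop a M) :=
      Module.Finite.of_restrictScalars_finite A _ _
    have hle : LocCoh.depth (A ⧸ Ideal.span {a}) (A ⧸ Ideal.span {a}) ≤ (e : ℕ∞) := by
      refine ENat.forall_natCast_le_iff_le.1 fun k hk => ?_
      have := depth_quot_succ_le ha haR hd hk
      exact_mod_cast (by omega : k ≤ e)
    obtain ⟨d', hd'⟩ := ENat.ne_top_iff_exists.1 (ne_top_of_le_ne_top (ENat.natCast_ne_top e) hle)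
    have hd'e : d' ≤ e := by rw [← hd'] at hle; exact_mod_cast hle
    refine ((CommAlgDim.pdlt_quotSMulTop_iff ha haR e M haM).1 ?_)
    exact (pdlt_depth_succ (QuotSMulTop a M) hd'.symm (e + 1 + 1)
      ((CommAlgDim.pdlt_quotSMulTop_iff ha haR (e + 1) M haM).2 h1)).mono (by omega)

theorem exists_depth : ∃ d : ℕ, LocCoh.depth A A = d := by
  obtain ⟨e, he⟩ := CommAlgDim.exists_ringKrullDim_eq (R := A)
  have h := depth_le_dim (A := A)
  rw [he] at h
  obtain ⟨d, hd⟩ := ENat.ne_top_iff_exists.1
    (ne_top_of_le_ne_top (ENat.natCast_ne_top e) (WithBot.coe_le_coe.1 h))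
  exact ⟨d, hd.symm⟩

/-- a regular element of `M` avoids the associated primes of `A` -/
theorem notMem_of_isSMulRegular : ∀ (D : ℕ) (A : Type u) [CommRing A] [IsLocalRing A] [IsNoetherianRing A]
    (p : ℕ) [Fact p.Prime] [CharP A p], ringKrullDim A ≤ (D : WithBot ℕ∞) →
    ∀ (M : Type u) [AddCommGroup M] [Module A M] [Module.Finite A M] [Nontrivial M] (n : ℕ),
    CommAlgDim.PDLT A M n → ∀ P ∈ associatedPrimes A A, ∀ x ∈ P, ¬ IsSMulRegular M x := by
  intro D
  induction D using Nat.strong_induction_on with
  | _ D ih =>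
    intro A _ _ _ p _ _ hD M _ _ _ _ n hn P hP x hxP hxM
    haveI := hP.isPrime
    have hxm : x ∈ maximalIdeal A := le_maximalIdeal hP.isPrime.ne_top hxP
    by_cases hQ : ∀ Q : Ideal A, Q.IsPrime → Module.annihilator A M ⊔ P ≤ Q → Q = maximalIdeal A
    · obtain ⟨d, hd⟩ := exists_depth (A := A)
      obtain ⟨hdpos, hpd⟩ := pdlt_depth M hd n hn hxm hxM
      obtain ⟨k, hk⟩ := Ideal.exists_pow_le_of_le_radical_of_fg
        (show maximalIdeal A ≤ (Module.annihilator A M ⊔ P).radical by
          rw [Ideal.radical_eq_sInf]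
          exact le_sInf fun Q hQ' => (hQ Q hQ'.2 hQ'.1).ge) (IsNoetherian.noetherian _)
      have hfl : IsFiniteLength A (M ⊗[A] (A ⧸ P)) := by
        refine Groth.Agent.S6292.result (maximalIdeal A) (IsNoetherian.noetherian _) _ k (eq_bot_iff.2 ?_)
        refine Submodule.smul_le.2 fun a ha v _ => ?_
        rw [Submodule.mem_bot]
        obtain ⟨t, ht, q, hq, rfl⟩ := Submodule.mem_sup.1 (hk ha)
        induction v using TensorProduct.induction_on with
        | zero => rw [smul_zero]
        | tmul m c =>
          rw [add_smul, TensorProduct.smul_tmul', Module.mem_annihilator.1 ht m, TensorProduct.zero_tmul, zero_add,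
            ← TensorProduct.tmul_smul, Algebra.smul_def, Ideal.Quotient.algebraMap_eq,
            Ideal.Quotient.eq_zero_iff_mem.2 hq, zero_mul, TensorProduct.tmul_zero]
        | add y z hy hz => rw [smul_add, hy trivial, hz trivial, add_zero]
      have h1 := supportDim_le p M (A ⧸ P) (d - 1) (hpd.mono (by omega)) hfl
      rw [Module.supportDim_eq_ringKrullDim_quotient_annihilator, Ideal.annihilator_quotient] at h1
      have h2 := CommAlgDim.depth_le_ringKrullDim_quotient hP ((CommAlgDim.le_depth_iff d).1 hd.ge)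
      have h3 : ((d : ℕ) : WithBot ℕ∞) ≤ ((d - 1 : ℕ) : WithBot ℕ∞) := h2.trans h1
      have h4 : d ≤ d - 1 := by exact_mod_cast h3
      omega
    · push Not at hQ
      obtain ⟨Q, hQp, hle, hne⟩ := hQ
      have hPQ : P ≤ Q := le_sup_right.trans hle
      let L := Localization.AtPrime Q
      let MQ := LocalizedModule Q.primeCompl M
      haveI : Nontrivial MQ := Module.mem_support_iff.1 (show (⟨Q, hQp⟩ : PrimeSpectrum A) ∈ Module.support A M from
        Module.mem_support_iff_of_finite.mpr (le_sup_left.trans hle))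
      haveI : CharP L p := (CharP.charP_iff_prime_eq_zero Fact.out).mpr (by
        rw [← map_natCast (algebraMap A L), CharP.cast_eq_zero, map_zero])
      haveI : Module.Finite L MQ :=
        Module.Finite.of_isLocalizedModule Q.primeCompl (LocalizedModule.mkLinearMap Q.primeCompl M)
      have hPL : P.map (algebraMap A L) ∈ associatedPrimes L L := by
        have hdisj : Disjoint (Q.primeCompl : Set A) P := Set.disjoint_left.2 fun a ha haP => ha (hPQ haP)
        haveI := IsLocalization.isPrime_of_isPrime_disjoint Q.primeCompl L P hP.isPrime hdisj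
        refine Module.associatedPrimes.mem_associatedPrimes_of_comap_mem_associatedPrimes_of_isLocalizedModule
          Q.primeCompl (Algebra.linearMap A L) _ ?_
        exact Eq.mpr (congrArg (· ∈ associatedPrimes A A) (IsLocalization.under_map_of_isPrime_disjoint Q.primeCompl L hP.isPrime hdisj)) hP
      obtain ⟨e, he⟩ := CommAlgDim.exists_ringKrullDim_eq (R := L)
      have hlt : e < D := by
        have h1 : Q.height < (maximalIdeal A).height :=
          Ideal.height_strict_mono_of_isPrime (lt_of_le_of_ne (le_maximalIdeal hQp.ne_top) hne)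
        have h2 := he.symm.trans (IsLocalization.AtPrime.ringKrullDim_eq_height Q L)
        have h3 : ((Q.height : ℕ∞) : WithBot ℕ∞) < (D : WithBot ℕ∞) :=
          lt_of_lt_of_le (WithBot.coe_lt_coe.2 h1) (IsLocalRing.maximalIdeal_height_eq_ringKrullDim.le.trans hD)
        rw [← h2] at h3
        exact_mod_cast h3
      exact ih e hlt L p he.le MQ (n + 1) (CommAlgDim.PDLT.localization Q.primeCompl
          (LocalizedModule.mkLinearMap Q.primeCompl M) (hn.mono (Nat.le_succ n))) (P.map (algebraMap A L)) hPL
        (algebraMap A L x) (Ideal.mem_map_of_mem _ hxP) (CommAlgDim.isSMulRegular_localization Q hxM)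

theorem isSMulRegular_of_module (p : ℕ) [Fact p.Prime] [CharP A p]
    (M : Type u) [AddCommGroup M] [Module A M] [Module.Finite A M] [Nontrivial M] (n : ℕ)
    (hn : CommAlgDim.PDLT A M n) (x : A) (hx : IsSMulRegular M x) : IsSMulRegular A x := by
  by_contra hcon
  have h1 : x ∈ {r : A | IsSMulRegular A r}ᶜ := hcon
  rw [← biUnion_associatedPrimes_eq_compl_regular A A, Set.mem_iUnion₂] at h1
  obtain ⟨P, hP, hxP⟩ := h1
  obtain ⟨e, he⟩ := CommAlgDim.exists_ringKrullDim_eq (R := A)
  exact notMem_of_isSMulRegular e A p he.le M n hn P hP x hxP hx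

end Groth.Agent.NewIntersectLib
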