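import Groth.Agent.NewIntersectLib.Bridge
import Groth.Agent.MinimalCxLib.Basic
import Groth.Agent.CommAlgDim.DepthBounds

/-!
# Consequences of the new intersection theorem for modules of finite projective dimension
-/

set_option autoImplicit false
universe u

open CategoryTheory CategoryTheory.Limits Matrix IsLocalRing RingTheory.Sequence
open scoped TensorProduct

namespace Groth.Agent.NewIntersectLib

variable {A : Type u} [CommRing A]

theorem depth_le_dim [IsLocalRing A] [IsNoetherianRing A] :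
    ((LocCoh.depth A A : ℕ∞) : WithBot ℕ∞) ≤ ringKrullDim A := by
  obtain ⟨P, hP⟩ := associatedPrimes.nonempty A A
  haveI : Nontrivial (A ⧸ P) := Ideal.Quotient.nontrivial_iff.2 hP.isPrime.ne_top
  refine le_trans ?_ (ringKrullDim_quotient_le P)
  obtain ⟨e, he⟩ := WithBot.ne_bot_iff_exists.1 (show ringKrullDim (A ⧸ P) ≠ ⊥ from
    ne_bot_of_le_ne_bot WithBot.zero_ne_bot (ringKrullDim_nonneg_of_nontrivial (R := A ⧸ P)))
  rw [← he]
  refine WithBot.coe_le_coe.2 (ENat.forall_natCast_le_iff_le.1 fun n hn => ?_)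
  have := CommAlgDim.depth_le_ringKrullDim_quotient hP ((CommAlgDim.le_depth_iff n).1 hn)
  rw [← he] at this
  exact WithBot.coe_le_coe.1 this

theorem exists_pow_mem_of_finLen [IsLocalRing A] (M N : Type u) [AddCommGroup M] [Module A M] [Module.Finite A M]
    [AddCommGroup N] [Module A N] [Module.Finite A N] (hfl : IsFiniteLength A (M ⊗[A] N))
    (P : Ideal A) (hP : Module.annihilator A N ≤ P) (a : A) (ha : a ∈ maximalIdeal A) :
    ∃ e : ℕ, a ^ e ∈ Module.annihilator A M ⊔ P := by
  suffices h : a ∈ (Module.annihilator A M ⊔ P).radical from h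
  rw [Ideal.radical_eq_sInf, Submodule.mem_sInf]
  rintro Q ⟨hQ, hQp⟩
  obtain ⟨n, hn⟩ := InjHullLib.exists_pow_smul_eq_zero hfl
  have hM : (⟨Q, hQp⟩ : PrimeSpectrum A) ∈ Module.support A M :=
    Module.mem_support_iff_of_finite.mpr (le_sup_left.trans hQ)
  have hN : (⟨Q, hQp⟩ : PrimeSpectrum A) ∈ Module.support A N :=
    Module.mem_support_iff_of_finite.mpr ((hP.trans le_sup_right).trans hQ)
  rw [Module.mem_support_iff_nontrivial_residueField_tensorProduct] at hM hN
  by_contra haQ
  let κ := Ideal.ResidueField Q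
  haveI : Nontrivial ((κ ⊗[A] M) ⊗[κ] (κ ⊗[A] N)) := inferInstance
  haveI : Nontrivial (κ ⊗[A] (M ⊗[A] N)) :=
    (TensorProduct.AlgebraTensorModule.distribBaseChange A κ M N).toEquiv.nontrivial
  obtain ⟨x, hx⟩ := exists_ne (0 : κ ⊗[A] (M ⊗[A] N))
  apply hx
  have h0 : a ^ n • x = 0 := by
    induction x using TensorProduct.induction_on with
    | zero => rw [smul_zero]
    | tmul c y => rw [← TensorProduct.tmul_smul, hn _ (Ideal.pow_mem_pow ha n), TensorProduct.tmul_zero]
    | add y z hy hz =>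
      by_cases h : y = 0
      · by_cases h' : z = 0
        · rw [h, h', add_zero, smul_zero]
        · rw [h, zero_add, hz h']
      · by_cases h' : z = 0
        · rw [h', add_zero, hy h]
        · rw [smul_add, hy h, hz h', add_zero]
  rw [← algebraMap_smul κ, smul_eq_zero] at h0
  refine h0.resolve_left ?_
  rw [Ideal.algebraMap_residueField_eq_zero]
  exact fun h => haQ (hQp.mem_of_pow_mem n h)

/-- The intersection theorem: `dim N ≤ pd M` when `M ⊗ N` has finite length. -/
theorem supportDim_le [IsLocalRing A] [IsNoetherianRing A] (p : ℕ) [Fact p.Prime] [CharP A p]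
    (M N : Type u) [AddCommGroup M] [Module A M] [Module.Finite A M] [Nontrivial M] [AddCommGroup N]
    [Module A N] [Module.Finite A N] (n : ℕ) (hpd : HasProjectiveDimensionLT (ModuleCat.of A M) (n + 1))
    (hfl : IsFiniteLength A (M ⊗[A] N)) : Module.supportDim A N ≤ (n : WithBot ℕ∞) := by
  classical
  obtain ⟨F, π, hπ, hker, hex, hbd⟩ := exists_resolution n M hpd
  refine iSup_le fun s => ?_
  by_contra hlt
  have hlen : n + 1 ≤ s.length := by
    by_contra h
    exact hlt (WithBot.coe_le_coe.2 (by exact_mod_cast (show s.length ≤ n by omega)))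
  let P := s.head.1.asIdeal
  haveI : Nontrivial (A ⧸ P) := Ideal.Quotient.nontrivial_iff.mpr s.head.1.isPrime.ne_top
  haveI : IsLocalRing (A ⧸ P) := IsLocalRing.of_surjective' _ Ideal.Quotient.mk_surjective
  haveI : CharP (A ⧸ P) p := (CharP.charP_iff_prime_eq_zero Fact.out).mpr (by
    rw [← map_natCast (Ideal.Quotient.mk P), CharP.cast_eq_zero, map_zero])
  have hdP : ((n + 1 : ℕ) : WithBot ℕ∞) ≤ ringKrullDim (A ⧸ P) := by
    rw [ringKrullDim_quotient]
    have hmem : ∀ i, (s i).1 ∈ PrimeSpectrum.zeroLocus (P : Set A) := fun i => s.monotone (Fin.zero_le i)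
    let s' : LTSeries (PrimeSpectrum.zeroLocus (P : Set A)) :=
      LTSeries.mk s.length (fun i => ⟨(s i).1, hmem i⟩) (fun a b hab => s.strictMono hab)
    exact le_trans (WithBot.coe_le_coe.2 (by exact_mod_cast hlen)) (Order.LTSeries.length_le_krullDim s')
  have hmq : maximalIdeal (A ⧸ P) = (maximalIdeal A).map (Ideal.Quotient.mk P) :=
    (IsLocalRing.map_maximalIdeal_of_surjective _ Ideal.Quotient.mk_surjective).symm
  have htor : ∀ a ∈ maximalIdeal (A ⧸ P), ∀ j, ∀ v ∈ (F.map (Ideal.Quotient.mk P)).Z j,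
      ∃ e : ℕ, a ^ e • v ∈ (F.map (Ideal.Quotient.mk P)).B j := by
    intro a ha j v hv
    rw [hmq, Ideal.mem_map_iff_of_surjective _ Ideal.Quotient.mk_surjective] at ha
    obtain ⟨a₀, ha₀, rfl⟩ := ha
    obtain ⟨e, he⟩ := exists_pow_mem_of_finLen M N hfl P (Module.annihilator_le_of_mem_support s.head.2) a₀ ha₀
    obtain ⟨t, ht, q, hq, htq⟩ := Submodule.mem_sup.mp he
    obtain ⟨K, H, hH⟩ := F.exists_htpy' t (j + 1) (fun i _ w hw => ⟨1, by
      rw [pow_one]
      cases i with
      | zero =>
        rw [← hker, LinearMap.mem_ker, map_smul]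
        exact Module.mem_annihilator.mp ht _
      | succ i => exact Submodule.smul_mem _ _ (hex i hw)⟩)
    refine ⟨e * K, ?_⟩
    have : Ideal.Quotient.mk P a₀ ^ (e * K) = Ideal.Quotient.mk P (t ^ K) := by
      rw [pow_mul, ← map_pow, ← htq, map_add, Ideal.Quotient.eq_zero_iff_mem.mpr hq, add_zero, map_pow]
    rw [this]
    exact MatCx.mem_B_of_htpy _ (hH.map F (Ideal.Quotient.mk P)) j (Nat.lt_succ_self j) v hv
  have h0 := matrix_newIntersection p (F.map (Ideal.Quotient.mk P)) n hbd hdP htor 0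
  -- surjective modulo `P`, hence `M = 0`
  have htop : F.B 0 = ⊤ := by
    refine top_le_iff.mp (Submodule.le_of_le_smul_of_le_jacobson_bot (IsNoetherian.noetherian ⊤)
      (maximalIdeal_le_jacobson (⊥ : Ideal A)) ?_)
    intro v _
    obtain ⟨w, hw⟩ := h0 (x := Ideal.Quotient.mk P ∘ v) trivial
    choose w₀ hw₀ using fun i => Ideal.Quotient.mk_surjective (w i)
    obtain rfl : Ideal.Quotient.mk P ∘ w₀ = w := funext hw₀
    change (F.D 0).map (Ideal.Quotient.mk P) *ᵥ (Ideal.Quotient.mk P ∘ w₀) = _ at hw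
    erw [MatCx.map_map_mulVec] at hw
    refine Submodule.mem_sup.mpr ⟨F.D 0 *ᵥ w₀, ⟨w₀, rfl⟩, v - F.D 0 *ᵥ w₀, ?_, add_sub_cancel _ _⟩
    rw [show (v - F.D 0 *ᵥ w₀) = ∑ i, (v i - (F.D 0 *ᵥ w₀) i) • (Pi.single i 1 : Fin (F.r 0) → A) from by
      funext t; simp [Finset.sum_apply, Pi.single_apply]]
    refine Submodule.sum_mem _ fun i _ => Submodule.smul_mem_smul ?_ trivial
    exact le_maximalIdeal s.head.1.isPrime.ne_top (Ideal.Quotient.eq.mp (congrFun hw i).symm)
  obtain ⟨x, hx⟩ := exists_ne (0 : M)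
  obtain ⟨v, rfl⟩ := hπ x
  exact hx (LinearMap.mem_ker.mp (by rw [hker, htop]; trivial))

/-- a resolution with split injective last map can be shortened -/
theorem hasPDLT_of_split [IsLocalRing A] : ∀ (n : ℕ) (M : Type u) [AddCommGroup M] [Module A M] (F : MatCx A)
    (π : (Fin (F.r 0) → A) →ₗ[A] M), Function.Surjective π → LinearMap.ker π = F.B 0 →
    (∀ j, F.Z (j + 1) ≤ F.B (j + 1)) → (L : Matrix (Fin (F.r (n + 1))) (Fin (F.r n)) A) →
    L * F.D n = 1 → HasProjectiveDimensionLT (ModuleCat.of A M) (n + 1) := by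
  intro n
  induction n with
  | zero =>
    intro M _ _ F π hπ hker _ L hL
    let φ : (Fin (F.r 0) → A) →ₗ[A] (Fin (F.r 0) → A) :=
      LinearMap.id - (F.D 0).mulVecLin ∘ₗ L.mulVecLin
    have hφ : LinearMap.ker π ≤ LinearMap.ker φ := by
      rw [hker]
      rintro _ ⟨w, rfl⟩
      simp [φ, Matrix.mulVec_mulVec, hL]
    let s : M →ₗ[A] (Fin (F.r 0) → A) :=
      (LinearMap.ker π).liftQ φ hφ ∘ₗ (π.quotKerEquivOfSurjective hπ).symm.toLinearMap
    have hs : π ∘ₗ s = LinearMap.id := by
      refine LinearMap.ext fun x => ?_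
      obtain ⟨v, rfl⟩ := hπ x
      have e : (π.quotKerEquivOfSurjective hπ).symm (π v) = Submodule.Quotient.mk v :=
        (π.quotKerEquivOfSurjective hπ).symm_apply_eq.mpr rfl
      show π ((LinearMap.ker π).liftQ φ hφ ((π.quotKerEquivOfSurjective hπ).symm (π v))) = π v
      rw [e, Submodule.liftQ_apply]
      show π (v - F.D 0 *ᵥ (L *ᵥ v)) = π v
      rw [map_sub, show π (F.D 0 *ᵥ (L *ᵥ v)) = 0 from by rw [← LinearMap.mem_ker, hker]; exact ⟨_, rfl⟩, sub_zero]
    haveI : Module.Projective A M := Module.Projective.of_split s π hs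
    exact projective_iff_hasProjectiveDimensionLT_one.mp ((IsProjective.iff_projective (R := A) M).mp inferInstance)
  | succ n ih =>
    intro M _ _ F π hπ hker hex L hL
    let F' : MatCx A := ⟨fun j => F.r (j + 1), fun j => F.D (j + 1), fun j => F.DD (j + 1)⟩
    let π' : (Fin (F'.r 0) → A) →ₗ[A] LinearMap.ker π :=
      (F.D 0).mulVecLin.codRestrict _ fun w => hker ▸ ⟨w, rfl⟩
    have hπ' : Function.Surjective π' := by
      rintro ⟨x, hx⟩
      rw [hker] at hx
      obtain ⟨w, rfl⟩ := hx
      exact ⟨w, rfl⟩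
    have hker' : LinearMap.ker π' = F'.B 0 := by
      rw [LinearMap.ker_codRestrict]
      refine le_antisymm (hex 0) ?_
      rintro _ ⟨w, rfl⟩
      show F.D 0 *ᵥ (F.D 1 *ᵥ w) = 0
      rw [Matrix.mulVec_mulVec, F.DD, Matrix.zero_mulVec]
    have hK := ih (LinearMap.ker π) F' π' hπ' hker' (fun j v hv => hex (j + 1) hv) L hL
    let S : ShortComplex (ModuleCat.{u} A) := ShortComplex.mk
      (ModuleCat.ofHom (LinearMap.ker π).subtype) (ModuleCat.ofHom π)
      (ModuleCat.hom_ext (LinearMap.ext fun x => x.2))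
    have hS : S.ShortExact :=
      { exact := (ShortComplex.moduleCat_exact_iff _).2 fun x hx => ⟨⟨x, hx⟩, rfl⟩
        mono_f := (ModuleCat.mono_iff_injective _).2 (LinearMap.ker π).injective_subtype
        epi_g := (ModuleCat.epi_iff_surjective _).2 hπ }
    haveI : Projective S.X₂ := (IsProjective.iff_projective (R := A) (Fin (F.r 0) → A)).1 inferInstance
    exact hS.hasProjectiveDimensionLT_X₃ (n + 1) hK (hasProjectiveDimensionLT_of_ge S.X₂ 1 _ (by omega))

/-- the differential between two degrees -/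
def MatCx.dd (F : MatCx A) (a b : ℕ) : (Fin (F.r a) → A) →ₗ[A] (Fin (F.r b) → A) :=
  if h : a = b + 1 then h ▸ (F.D b).mulVecLin else 0

theorem MatCx.dd_eq (F : MatCx A) (b : ℕ) : F.dd (b + 1) b = (F.D b).mulVecLin := dif_pos rfl

/-- above the depth the projective dimension drops -/
theorem pd_drop [IsLocalRing A] [IsNoetherianRing A] (M : Type u) [AddCommGroup M] [Module A M] [Module.Finite A M]
    {d : ℕ} (hd : LocCoh.depth A A = d) (m : ℕ) (hdm : d ≤ m)
    (hpd : HasProjectiveDimensionLT (ModuleCat.of A M) (m + 2)) :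
    HasProjectiveDimensionLT (ModuleCat.of A M) (m + 1) := by
  classical
  obtain ⟨F, π, hπ, hker, hex, hbd⟩ := exists_resolution (m + 1) M hpd
  obtain ⟨rs, hl, hr, z, hz, hzm⟩ := MinimalCxLib.exists_socle hd
  let X : ℕ → Type u := fun j => Fin (F.r (m + 1 - j)) → A
  let δ : ∀ j, X j →ₗ[A] X (j + 1) := fun j => F.dd (m + 1 - j) (m + 1 - (j + 1))
  have hcomp : ∀ a b c (x : Fin (F.r a) → A), F.dd b c (F.dd a b x) = 0 := by
    intro a b c x
    unfold MatCx.dd
    by_cases h : a = b + 1
    · by_cases h' : b = c + 1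
      · subst h'; subst h
        rw [dif_pos rfl, dif_pos rfl]
        show F.D c *ᵥ (F.D (c + 1) *ᵥ x) = 0
        rw [Matrix.mulVec_mulVec, F.DD, Matrix.zero_mulVec]
      · rw [dif_neg h']; rfl
    · rw [dif_neg h, LinearMap.zero_apply, map_zero]
  have hX : ∀ j ≤ rs.length, ∀ y, δ j y = 0 → y ∈ AcyclicTorLib.img δ j := by
    intro j hj
    have key : ∀ a b (_ : a = b + 1) (y : Fin (F.r a) → A), F.dd a b y = 0 →
        y ∈ LinearMap.range (F.dd (a + 1) a) := by
      rintro a b rfl y hy
      rw [MatCx.dd_eq] at hy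
      obtain ⟨w, hw⟩ := hex b (x := y) hy
      exact ⟨w, by rw [MatCx.dd_eq]; exact hw⟩
    intro y hy
    have h1 := key _ _ (by omega) y hy
    cases j with
    | zero =>
      obtain ⟨w, rfl⟩ := h1
      have : w = 0 := funext fun s => absurd s.2 (by have := hbd (m + 1 - 0 + 1) (by omega); omega)
      rw [this, map_zero]
      exact zero_mem _
    | succ i =>
      have : ∀ (a : ℕ) (_ : a = m + 1 - i), y ∈ LinearMap.range (F.dd a (m + 1 - (i + 1))) →
          y ∈ AcyclicTorLib.img δ (i + 1) := by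
        rintro a rfl h
        exact h
      exact this _ (by omega) h1
  have hinj : ∀ y : Fin (F.r (m + 1)) → A, (∀ s, (F.D m *ᵥ y) s ∈ maximalIdeal A) → ∀ i, y i ∈ maximalIdeal A := by
    intro y hy i
    have hsm : ∀ {q : ℕ} (v : Fin q → A), (∀ s, v s ∈ Ideal.ofList rs) →
        v ∈ Ideal.ofList rs • (⊤ : Submodule A (Fin q → A)) := by
      intro q v hv
      rw [show v = ∑ s, v s • (Pi.single s 1 : Fin q → A) from by funext t; simp [Finset.sum_apply, Pi.single_apply]]
      exact Submodule.sum_mem _ fun s _ => Submodule.smul_mem_smul (hv s) trivial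
    have h2 : z • y ∈ Ideal.ofList rs • (⊤ : Submodule A (X 0)) := by
      refine MinimalCxLib.mem_smul_of_exact rs X δ (fun j x => hcomp _ _ _ x)
        (fun j => AcyclicTorLib.isWeaklyRegular_pi rs A hr) hX (z • y) ?_
      refine hsm _ fun s => ?_
      change (F.dd (m + 1) m (z • y)) s ∈ _
      rw [MatCx.dd_eq, map_smul]
      exact hzm _ (hy s)
    by_contra hu
    rw [IsLocalRing.mem_maximalIdeal, mem_nonunits_iff, not_not] at hu
    have h3 : z * y i ∈ Ideal.ofList rs := by
      refine Submodule.smul_induction_on (p := fun v : X 0 => v i ∈ Ideal.ofList rs) h2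
        (fun a ha v _ => Ideal.mul_mem_right _ _ ha) (fun v w hv hw => add_mem hv hw)
    exact hz ((Ideal.mul_unit_mem_iff_mem _ hu).mp h3)
  -- a left inverse modulo the maximal ideal
  let Dk := (F.D m).map (residue A)
  have hinjk : LinearMap.ker Dk.mulVecLin = ⊥ := by
    rw [LinearMap.ker_eq_bot']
    intro x hx
    choose y hy using fun i => residue_surjective (R := A) (x i)
    obtain rfl : residue A ∘ y = x := funext hy
    change Dk *ᵥ (residue A ∘ y) = 0 at hx
    erw [MatCx.map_map_mulVec] at hx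
    funext i
    exact (residue_eq_zero_iff _).mpr (hinj y (fun s => (residue_eq_zero_iff _).mp (congrFun hx s)) i)
  obtain ⟨g, hg⟩ := LinearMap.exists_leftInverse_of_injective _ hinjk
  choose L₀ hL₀ using fun i j => residue_surjective (R := A) (LinearMap.toMatrix' g i j)
  let N := Matrix.of L₀ * F.D m
  have hN : N.map (residue A) = 1 := by
    rw [Matrix.map_mul, show (Matrix.of L₀).map (residue A) = LinearMap.toMatrix' g from Matrix.ext fun i j => hL₀ i j,
      ← LinearMap.toMatrix'_toLin' ((F.D m).map (residue A)), ← LinearMap.toMatrix'_comp]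
    exact (congrArg LinearMap.toMatrix' hg).trans LinearMap.toMatrix'_id
  have hdet : IsUnit N.det := by
    rw [← residue_ne_zero_iff_isUnit, RingHom.map_det]
    change (N.map (residue A)).det ≠ 0
    rw [hN, Matrix.det_one]
    exact one_ne_zero
  exact hasPDLT_of_split m M F π hπ hker hex (N⁻¹ * Matrix.of L₀)
    (by rw [Matrix.mul_assoc, Matrix.nonsing_inv_mul _ hdet])

/-- Cohen–Macaulayness from a module of finite length and finite projective dimension. -/
theorem isCM_of_finLen [IsLocalRing A] [IsNoetherianRing A] (p : ℕ) [Fact p.Prime] [CharP A p]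
    (M : Type u) [AddCommGroup M] [Module A M] [Module.Finite A M] [Nontrivial M]
    (hfl : IsFiniteLength A M) (n : ℕ) (hpd : HasProjectiveDimensionLT (ModuleCat.of A M) n) :
    LocCoh.IsCohenMacaulayLocalRing A := by
  refine { supportDim_eq_depth := ?_ }
  rw [Module.supportDim_self_eq_ringKrullDim]
  refine le_antisymm ?_ depth_le_dim
  cases h : LocCoh.depth A A using ENat.recTopCoe with
  | top => exact le_top
  | coe d =>
    have key : ∀ i, HasProjectiveDimensionLT (ModuleCat.of A M) (d + 1 + i) →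
        HasProjectiveDimensionLT (ModuleCat.of A M) (d + 1) := by
      intro i
      induction i with
      | zero => exact id
      | succ i ih =>
        intro hi
        apply ih
        rw [show d + 1 + i = (d + i) + 1 by omega]
        exact pd_drop M h (d + i) (by omega) (by rwa [show d + i + 2 = d + 1 + (i + 1) by omega])
    have hd1 := key n (hasProjectiveDimensionLT_of_ge _ n _ (by omega))
    have := supportDim_le p M A d hd1
      (hfl.of_surjective (f := (TensorProduct.rid A M).symm.toLinearMap) (TensorProduct.rid A M).symm.surjective)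
    rwa [Module.supportDim_self_eq_ringKrullDim] at this

end Groth.Agent.NewIntersectLib
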