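import Groth.Agent.NewIntersectLib.Canon
import Groth.Agent.KoszDetLib.Cone
import Groth.Agent.FlatCxLib.Homology
import Groth.Agent.InjHullLib.Local

/-!
# The canonical element theorem for the Koszul complex
-/

set_option autoImplicit false
universe u

open CategoryTheory Matrix IsLocalRing KoszDetLib

namespace Groth.Agent.NewIntersectLib

noncomputable section

variable {A : Type u} [CommRing A]

theorem toMatrix_mem (I : Ideal A) {M N : Type u} [AddCommGroup M] [Module A M] [AddCommGroup N] [Module A N]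
    {m n : ℕ} (b : Module.Basis (Fin m) A M) (b' : Module.Basis (Fin n) A N) (φ : M →ₗ[A] N)
    (h : LinearMap.range φ ≤ I • (⊤ : Submodule A N)) (s : Fin n) (t : Fin m) :
    LinearMap.toMatrix b b' φ s t ∈ I := by
  rw [LinearMap.toMatrix_apply]
  refine Submodule.smul_induction_on (h ⟨b t, rfl⟩) (fun a ha v _ => ?_) (fun v w hv hw => ?_)
  · rw [map_smul, Finsupp.smul_apply, smul_eq_mul]
    exact I.mul_mem_right _ ha
  · rw [map_add, Finsupp.add_apply]
    exact I.add_mem hv hw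

theorem exists_toMatrix_factor {M N P : Type u} [AddCommGroup M] [Module A M] [AddCommGroup N] [Module A N]
    [AddCommGroup P] [Module A P] {m n q : ℕ} (b : Module.Basis (Fin m) A M) (b' : Module.Basis (Fin n) A N)
    (b'' : Module.Basis (Fin q) A P) (φ : M →ₗ[A] N) (δ : P →ₗ[A] N)
    (h : LinearMap.range φ ≤ LinearMap.range δ) :
    ∃ U : Matrix (Fin q) (Fin m) A, LinearMap.toMatrix b b' φ = LinearMap.toMatrix b'' b' δ * U := by
  choose w hw using fun t => h ⟨b t, rfl⟩
  refine ⟨LinearMap.toMatrix b b'' (b.constr A w), ?_⟩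
  rw [← LinearMap.toMatrix_comp]
  congr 1
  exact b.ext fun t => by rw [LinearMap.comp_apply, Module.Basis.constr_basis, hw]

section Kz

variable {d : ℕ} (x : Fin d → A)

theorem emb_support : ∀ {n : ℕ} (f : Fin n → A) (i : ℤ) (z : (Koszul.koszul A (List.ofFn f)).X i) (s : Idx n),
    (i + (deg s : ℤ) ≠ 0) → emb f i z s = 0
  | 0, f, i, z, s, hs => by
    have h : i ≠ 0 := by simpa [deg] using hs
    simp [emb, dif_neg h]
  | n + 1, f, i, z, s, hs => by
    rw [emb_succ]
    cases s with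
    | inl t => exact emb_support _ i _ t hs
    | inr t =>
      refine emb_support _ (i + 1) _ t ?_
      have : (deg (n := n + 1) (Sum.inr t) : ℤ) = (deg t : ℤ) + 1 := by simp [deg]
      omega

theorem proj_emb (j : ℕ) (z : (Koszul.koszul A (List.ofFn x)).X (-(j : ℤ))) :
    proj j (emb x _ z) = emb x _ z := by
  funext s
  rw [proj_apply]
  split_ifs with h
  · rfl
  · exact (emb_support x _ z s (by omega)).symm

theorem isZero_of_pos (i : ℤ) (hi : ∀ s : Idx d, i + (deg s : ℤ) ≠ 0) :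
    Subsingleton ((Koszul.koszul A (List.ofFn x)).X i) := by
  refine ⟨fun z w => emb_injective x i (funext fun s => ?_)⟩
  rw [emb_support x i z s (hi s), emb_support x i w s (hi s)]

/-- coordinates on a term of the Koszul complex -/
def coord (j : ℕ) : (Koszul.koszul A (List.ofFn x)).X (-(j : ℤ)) ≃ₗ[A] ({s : Idx d // deg s = j} → A) :=
  LinearEquiv.ofBijective (LinearMap.funLeft A A Subtype.val ∘ₗ emb x (-(j : ℤ))) (by
    classical
    constructor
    · rw [injective_iff_map_eq_zero]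
      intro z hz
      refine (map_eq_zero_iff _ (emb_injective x _)).1 (funext fun s => ?_)
      by_cases h : deg s = j
      · exact congrFun hz ⟨s, h⟩
      · exact emb_support x _ z s (by omega)
    · intro v
      obtain ⟨z, hz⟩ := emb_surj x (-(j : ℤ)) j (by omega) (fun s => if h : deg s = j then v ⟨s, h⟩ else 0)
      refine ⟨z, funext fun s => ?_⟩
      show emb x _ z s.1 = v s
      rw [hz, proj_apply, if_pos s.2, dif_pos s.2])

theorem coord_apply (j : ℕ) (z : (Koszul.koszul A (List.ofFn x)).X (-(j : ℤ))) (s : {s : Idx d // deg s = j}) :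
    coord x j z s = emb x _ z s.1 := rfl

theorem emb_d' (a b : ℤ) (h : a + 1 = b) (w : (Koszul.koszul A (List.ofFn x)).X a) :
    emb x b (((Koszul.koszul A (List.ofFn x)).d a b).hom w) = D x (emb x a w) := by
  subst h
  exact emb_d x a w

theorem range_d_le (I : Ideal A) (hx : ∀ i, x i ∈ I) (j : ℕ) :
    LinearMap.range ((Koszul.koszul A (List.ofFn x)).d (-((j + 1 : ℕ) : ℤ)) (-(j : ℤ))).hom ≤
      I • (⊤ : Submodule A ((Koszul.koszul A (List.ofFn x)).X (-(j : ℤ)))) := by
  classical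
  haveI : Fintype (Idx d) := Fintype.ofFinite _
  rintro _ ⟨w, rfl⟩
  set y := ((Koszul.koszul A (List.ofFn x)).d (-((j + 1 : ℕ) : ℤ)) (-(j : ℤ))).hom w
  have hy : y = ∑ s, coord x j y s • (coord x j).symm (Pi.single s 1) := by
    apply (coord x j).injective
    funext t
    simp [map_sum, Finset.sum_apply, Pi.single_apply]
  rw [hy]
  refine Submodule.sum_mem _ fun s _ => Submodule.smul_mem_smul ?_ trivial
  rw [coord_apply, emb_d' x _ _ (by push_cast; ring)]
  exact (Ideal.span_le.mpr (Set.range_subset_iff.mpr hx)) (D_mem x _ _)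

theorem smul_cycle_mem (i : Fin d) (j : ℕ) (z : (Koszul.koszul A (List.ofFn x)).X (-(j : ℤ)))
    (hz : ∀ l, j = l + 1 → ((Koszul.koszul A (List.ofFn x)).d (-(j : ℤ)) (-(l : ℤ))).hom z = 0) :
    x i • z ∈ LinearMap.range ((Koszul.koszul A (List.ofFn x)).d (-((j + 1 : ℕ) : ℤ)) (-(j : ℤ))).hom := by
  have hD : D x (emb x _ z) = 0 := by
    cases j with
    | zero => rw [← proj_emb x 0 z]; exact D_proj_zero x _
    | succ l => rw [← emb_d' x (-((l + 1 : ℕ) : ℤ)) (-(l : ℤ)) (by push_cast; ring) z, hz l rfl, map_zero]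
  obtain ⟨w, hw⟩ := emb_surj x (-((j + 1 : ℕ) : ℤ)) (j + 1) (by omega) (L (Pi.single i 1) (emb x _ z))
  refine ⟨w, emb_injective x _ ?_⟩
  rw [emb_d' x _ _ (by push_cast; ring), hw, proj_L, proj_emb, map_smul]
  have h := D_L x (Pi.single i 1) (emb x _ z)
  rw [hD, map_zero, add_zero] at h
  rw [h]
  simp [Pi.single_apply]

end Kz

/-- The canonical element theorem in characteristic `p`. -/
theorem canonical_element [IsLocalRing A] [IsNoetherianRing A] (p : ℕ) [Fact p.Prime] [CharP A p]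
    (d : ℕ) (hd : ((d : ℕ) : WithBot ℕ∞) ≤ ringKrullDim A) (x : Fin d → A) (hx : ∀ j, x j ∈ maximalIdeal A)
    (hsop : maximalIdeal A ≤ (Ideal.span (Set.range x)).radical)
    (F : CochainComplex (ModuleCat.{u} A) ℤ) (hF1 : Limits.IsZero (F.X 1))
    (hFfree : ∀ i, Module.Free A (F.X i) ∧ Module.Finite A (F.X i))
    (f : Koszul.koszul A (List.ofFn x) ⟶ F) (hf : IsIso (HomologicalComplex.homologyMap f 0))
    (hle : LinearMap.range (f.f (-(d : ℤ))).hom ≤ maximalIdeal A • (⊤ : Submodule A (F.X (-(d : ℤ))))) :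
    False := by
  classical
  let K := Koszul.koszul A (List.ofFn x)
  haveI : ∀ j : ℕ, Module.Free A (K.X (-(j : ℤ))) := fun j => Module.Free.of_equiv (coord x j).symm
  haveI : ∀ j : ℕ, Module.Finite A (K.X (-(j : ℤ))) := fun j => Module.Finite.equiv (coord x j).symm
  haveI := fun j : ℕ => (hFfree (-(j : ℤ))).1
  haveI := fun j : ℕ => (hFfree (-(j : ℤ))).2
  let bK := fun j : ℕ => Module.finBasis A (K.X (-(j : ℤ)))
  let bF := fun j : ℕ => Module.finBasis A (F.X (-(j : ℤ)))
  let δK := fun j : ℕ => (K.d (-((j + 1 : ℕ) : ℤ)) (-(j : ℤ))).hom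
  let δF := fun j : ℕ => (F.d (-((j + 1 : ℕ) : ℤ)) (-(j : ℤ))).hom
  let MK : MatCx A :=
    { r := fun j => Module.finrank A (K.X (-(j : ℤ)))
      D := fun j => LinearMap.toMatrix (bK (j + 1)) (bK j) (δK j)
      DD := fun j => by
        rw [← LinearMap.toMatrix_comp, show δK j ∘ₗ δK (j + 1) = 0 from by
          show (K.d _ _ ≫ K.d _ _).hom = 0
          rw [K.d_comp_d]; rfl, map_zero] }
  let MF : MatCx A :=
    { r := fun j => Module.finrank A (F.X (-(j : ℤ)))
      D := fun j => LinearMap.toMatrix (bF (j + 1)) (bF j) (δF j)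
      DD := fun j => by
        rw [← LinearMap.toMatrix_comp, show δF j ∘ₗ δF (j + 1) = 0 from by
          show (F.d _ _ ≫ F.d _ _).hom = 0
          rw [F.d_comp_d]; rfl, map_zero] }
  let P : ∀ j, Matrix (Fin (MF.r j)) (Fin (MK.r j)) A := fun j =>
    LinearMap.toMatrix (bK j) (bF j) (f.f (-(j : ℤ))).hom
  have hP : ∀ j, MF.D j * P (j + 1) = P j * MK.D j := fun j => by
    show LinearMap.toMatrix _ _ (δF j) * LinearMap.toMatrix _ _ _ = LinearMap.toMatrix _ _ _ * LinearMap.toMatrix _ _ (δK j)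
    rw [← LinearMap.toMatrix_comp, ← LinearMap.toMatrix_comp]
    congr 1
    exact congrArg ModuleCat.Hom.hom (f.comm (-((j + 1 : ℕ) : ℤ)) (-(j : ℤ)))
  have hbd : ∀ j, d < j → MK.r j = 0 := fun j hj => by
    haveI := isZero_of_pos x (-(j : ℤ)) (fun s => by have := deg_le s; omega)
    exact Module.finrank_zero_of_subsingleton
  have htop : MK.r d ≠ 0 := by
    haveI : Nonempty {s : Idx d // deg s = d} := ⟨⟨top d, deg_top d⟩⟩
    haveI : Fintype {s : Idx d // deg s = d} := Fintype.ofFinite _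
    show Module.finrank A (K.X (-(d : ℤ))) ≠ 0
    rw [LinearEquiv.finrank_eq (coord x d), Module.finrank_pi]
    exact Fintype.card_ne_zero
  have hZ : ∀ j (v : Fin (MK.r j) → A), v ∈ MK.Z j → ∀ i, x i • v ∈ MK.B j := by
    intro j v hv i
    obtain ⟨z, rfl⟩ := (bK j).equivFun.surjective v
    have hz : ∀ l, j = l + 1 → (K.d (-(j : ℤ)) (-(l : ℤ))).hom z = 0 := by
      rintro l rfl
      rw [MatCx.mem_Z_succ] at hv
      apply (bK l).equivFun.injective
      rw [map_zero, ← hv]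
      exact (LinearMap.toMatrix_mulVec_repr (bK (l + 1)) (bK l) (δK l) z).symm
    obtain ⟨w, hw⟩ := smul_cycle_mem x i j z hz
    refine ⟨(bK (j + 1)).equivFun w, ?_⟩
    rw [← map_smul, ← hw]
    exact LinearMap.toMatrix_mulVec_repr (bK (j + 1)) (bK j) (δK j) w
  have hh : maximalIdeal A ≤ (MK.htpyIdeal (d + 2)).radical := by
    refine hsop.trans (Ideal.radical_le_radical_iff.mpr (Ideal.span_le.mpr ?_))
    rintro _ ⟨i, rfl⟩
    obtain ⟨M, H, hH⟩ := MK.exists_htpy' (x i) (d + 2) fun j _ v hv => ⟨1, by rw [pow_one]; exact hZ j v hv i⟩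
    exact ⟨M, H, hH⟩
  have hDm : ∀ j s t, MK.D j s t ∈ maximalIdeal A := fun j =>
    toMatrix_mem _ _ _ _ (range_d_le x _ hx j)
  -- degree zero
  have hk : (ComplexShape.up ℤ).next (-((0 : ℕ) : ℤ)) = 1 := by simp
  have hj : (ComplexShape.up ℤ).prev (-((0 : ℕ) : ℤ)) = -((0 + 1 : ℕ) : ℤ) := by simp
  haveI hF1' : Subsingleton (F.X 1) := ModuleCat.subsingleton_of_isZero hF1
  haveI hK1 : Subsingleton (K.X 1) := isZero_of_pos x 1 (fun s => by omega)
  have hfb : Function.Bijective (HomologicalComplex.homologyMap f (-((0 : ℕ) : ℤ))).hom := by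
    have : IsIso (HomologicalComplex.homologyMap f (-((0 : ℕ) : ℤ))) := hf
    exact ConcreteCategory.bijective_of_isIso (HomologicalComplex.homologyMap f (-((0 : ℕ) : ℤ)))
  have hsurj := (FlatCxLib.surjective_homologyMap_iff _ 1 hk f _ hj).1 hfb.2
  have hinj := (FlatCxLib.injective_homologyMap_iff _ 1 hk f _ hj).1 hfb.1
  choose xx hxx0 hxx using fun i => hsurj (bF 0 i) (Subsingleton.elim _ _)
  let g₀ := (bF 0).constr A xx
  have hg : ∀ y, (f.f (-((0 : ℕ) : ℤ))).hom (g₀ y) - y ∈ LinearMap.range (δF 0) := by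
    intro y
    have : LinearMap.range ((f.f (-((0 : ℕ) : ℤ))).hom ∘ₗ g₀ - LinearMap.id) ≤ LinearMap.range (δF 0) := by
      rw [LinearMap.range_eq_map, ← (bF 0).span_eq, Submodule.map_span, Submodule.span_le]
      rintro _ ⟨_, ⟨i, rfl⟩, rfl⟩
      show (f.f (-((0 : ℕ) : ℤ))).hom (g₀ (bF 0 i)) - bF 0 i ∈ _
      rw [Module.Basis.constr_basis]
      exact hxx i
    exact this ⟨y, rfl⟩
  obtain ⟨U, hU⟩ := exists_toMatrix_factor (bF 1) (bK 0) (bK 1) (g₀ ∘ₗ δF 0) (δK 0) (by
    rintro _ ⟨u, rfl⟩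
    refine hinj _ (Subsingleton.elim _ _) ?_
    rw [LinearMap.comp_apply]
    have h := Submodule.add_mem _ (hg (δF 0 u)) ⟨u, rfl⟩
    rw [sub_add_cancel] at h
    exact h)
  obtain ⟨V, hV⟩ := exists_toMatrix_factor (bK 0) (bK 0) (bK 1)
    (g₀ ∘ₗ (f.f (-((0 : ℕ) : ℤ))).hom - LinearMap.id) (δK 0) (by
    rintro _ ⟨u, rfl⟩
    refine hinj _ (Subsingleton.elim _ _) ?_
    rw [LinearMap.sub_apply, LinearMap.comp_apply, LinearMap.id_apply, map_sub]
    exact hg _)
  rw [map_sub, LinearMap.toMatrix_id, sub_eq_iff_eq_add'] at hV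
  exact matrix_canon p MK MF d hbd hd hh hDm htop P hP (toMatrix_mem _ _ _ _ hle)
    (LinearMap.toMatrix (bF 0) (bK 0) g₀) U ((LinearMap.toMatrix_comp (bF 1) (bF 0) (bK 0) g₀ (δF 0)).symm.trans hU)
    V ((LinearMap.toMatrix_comp (bK 0) (bF 0) (bK 0) g₀ (f.f (-((0 : ℕ) : ℤ))).hom).symm.trans hV)

end

end Groth.Agent.NewIntersectLib
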