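import Groth.Agent.NewIntersectLib.CharP
import Groth.Agent.InjHullLib.Local

/-!
# Chain complexes of finite free modules as complexes of matrices; resolutions
-/

set_option autoImplicit false
universe u

open CategoryTheory CategoryTheory.Limits Matrix IsLocalRing

namespace Groth.Agent.NewIntersectLib

variable {A : Type u} [CommRing A]

namespace MatCx

/-- a homotopy for `a` kills the homology -/
theorem mem_B_of_htpy (F : MatCx A) {a : A} {n : ℕ} {H : ∀ j, Matrix (Fin (F.r (j + 1))) (Fin (F.r j)) A}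
    (h : F.IsHtpy a n H) (j : ℕ) (hj : j < n) (v : Fin (F.r j) → A) (hv : v ∈ F.Z j) : a • v ∈ F.B j := by
  refine ⟨H j *ᵥ v, ?_⟩
  rw [Matrix.mulVecLin_apply, Matrix.mulVec_mulVec]
  cases j with
  | zero => rw [h.1 hj, Matrix.smul_mulVec, Matrix.one_mulVec]
  | succ i =>
    rw [mem_Z_succ] at hv
    rw [eq_sub_of_add_eq (h.2 i hj), Matrix.sub_mulVec, Matrix.smul_mulVec, Matrix.one_mulVec,
      ← Matrix.mulVec_mulVec, hv, Matrix.mulVec_zero, sub_zero]

/-- prepend one term -/
def cons (F : MatCx A) (q : ℕ) (D₀ : Matrix (Fin q) (Fin (F.r 0)) A) (h : D₀ * F.D 0 = 0) : MatCx A where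
  r := fun
    | 0 => q
    | j + 1 => F.r j
  D := fun
    | 0 => D₀
    | j + 1 => F.D j
  DD := fun
    | 0 => h
    | j + 1 => F.DD j

/-- one term in degree zero -/
def single (A : Type u) [CommRing A] (q : ℕ) : MatCx A where
  r := fun
    | 0 => q
    | _ + 1 => 0
  D := fun _ => 0
  DD := fun _ => Matrix.zero_mul _

end MatCx

/-- finite free resolutions by matrices over a noetherian local ring -/
theorem exists_resolution [IsNoetherianRing A] [IsLocalRing A] : ∀ (n : ℕ) (M : Type u) [AddCommGroup M]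
    [Module A M] [Module.Finite A M], HasProjectiveDimensionLT (ModuleCat.of A M) (n + 1) →
    ∃ (F : MatCx A) (π : (Fin (F.r 0) → A) →ₗ[A] M), Function.Surjective π ∧ LinearMap.ker π = F.B 0 ∧
      (∀ j, F.Z (j + 1) ≤ F.B (j + 1)) ∧ ∀ j, n < j → F.r j = 0 := by
  intro n
  induction n with
  | zero =>
    intro M _ _ _ hpd
    haveI hP : Module.Projective A M := (IsProjective.iff_projective (R := A) M).mpr
      (projective_iff_hasProjectiveDimensionLT_one.mpr hpd)
    haveI : Module.Free A M := Module.free_of_flat_of_isLocalRing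
    refine ⟨MatCx.single A (Module.finrank A M), (Module.finBasis A M).equivFun.symm.toLinearMap,
      (Module.finBasis A M).equivFun.symm.surjective, ?_, ?_, ?_⟩
    · rw [LinearEquiv.ker, eq_comm, eq_bot_iff]
      rintro _ ⟨w, rfl⟩
      exact Matrix.zero_mulVec w
    · intro j v _
      rw [show v = 0 from funext fun s => s.elim0]
      exact zero_mem _
    · intro j hj
      obtain ⟨i, rfl⟩ := Nat.exists_eq_add_of_le (Nat.succ_le_of_lt hj)
      rw [add_comm]
      rfl
  | succ n ih =>
    intro M _ _ _ hpd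
    obtain ⟨q, g, hg⟩ := Module.Finite.exists_fin' A M
    let S : ShortComplex (ModuleCat.{u} A) := ShortComplex.mk
      (ModuleCat.ofHom (LinearMap.ker g).subtype) (ModuleCat.ofHom g)
      (ModuleCat.hom_ext (LinearMap.ext fun x => x.2))
    have hS : S.ShortExact :=
      { exact := (ShortComplex.moduleCat_exact_iff _).2 fun x hx => ⟨⟨x, hx⟩, rfl⟩
        mono_f := (ModuleCat.mono_iff_injective _).2 (LinearMap.ker g).injective_subtype
        epi_g := (ModuleCat.epi_iff_surjective _).2 hg }
    haveI : Projective S.X₂ := (IsProjective.iff_projective (R := A) (Fin q → A)).1 inferInstance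
    have hK : HasProjectiveDimensionLT S.X₁ (n + 1) :=
      hS.hasProjectiveDimensionLT_X₁ (n + 1) (hasProjectiveDimensionLT_of_ge S.X₂ 1 _ (by omega)) hpd
    obtain ⟨F, π, hπ, hker, hex, hbd⟩ := ih (LinearMap.ker g) hK
    let φ := (LinearMap.ker g).subtype ∘ₗ π
    have hφ : ∀ w, LinearMap.toMatrix' φ *ᵥ w = (π w).1 := fun w => LinearMap.toMatrix'_mulVec φ w
    have h0 : LinearMap.toMatrix' φ * F.D 0 = 0 := by
      refine Matrix.ext_of_mulVec_single fun i => ?_
      rw [← Matrix.mulVec_mulVec, hφ, Matrix.zero_mulVec]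
      have : F.D 0 *ᵥ Pi.single i 1 ∈ LinearMap.ker π := hker ▸ ⟨_, rfl⟩
      rw [LinearMap.mem_ker.mp this]
      rfl
    refine ⟨F.cons q _ h0, g, hg, ?_, ?_, ?_⟩
    · refine le_antisymm (fun x hx => ?_) ?_
      · obtain ⟨w, hw⟩ := hπ ⟨x, hx⟩
        exact ⟨w, (hφ w).trans (congrArg Subtype.val hw)⟩
      · rintro _ ⟨w, rfl⟩
        show g (LinearMap.toMatrix' φ *ᵥ w) = 0
        rw [hφ]
        exact (π w).2
    · intro j v hv
      cases j with
      | zero =>
        have h1 : π v = 0 := Subtype.ext ((hφ v).symm.trans hv)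
        rw [← LinearMap.mem_ker, hker] at h1
        exact h1
      | succ i => exact hex i hv
    · intro j hj
      cases j with
      | zero => omega
      | succ i => exact hbd i (by omega)

/-- The new intersection theorem in characteristic `p`. -/
theorem chainComplex_newIntersection [IsLocalRing A] [IsNoetherianRing A] (p : ℕ) [Fact p.Prime] [CharP A p]
    (C : ChainComplex (ModuleCat.{u} A) ℕ) (k : ℕ) (hbd : ∀ i, k < i → IsZero (C.X i))
    (hfree : ∀ i, Module.Free A (C.X i) ∧ Module.Finite A (C.X i))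
    (hfl : ∀ i, IsFiniteLength A (C.homology i))
    (hdim : ((k + 1 : ℕ) : WithBot ℕ∞) ≤ ringKrullDim A) (i : ℕ) : IsZero (C.homology i) := by
  classical
  haveI := fun j => (hfree j).1
  haveI := fun j => (hfree j).2
  let b := fun j => Module.finBasis A (C.X j)
  let δ : ∀ j, C.X (j + 1) →ₗ[A] C.X j := fun j => (C.d (j + 1) j).hom
  let F : MatCx A :=
    { r := fun j => Module.finrank A (C.X j)
      D := fun j => LinearMap.toMatrix (b (j + 1)) (b j) (δ j)
      DD := fun j => by
        rw [← LinearMap.toMatrix_comp, show δ j ∘ₗ δ (j + 1) = 0 from by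
          show (C.d (j + 1 + 1) (j + 1) ≫ C.d (j + 1) j).hom = 0
          rw [C.d_comp_d]
          rfl, map_zero] }
  have hD : ∀ j (x : C.X (j + 1)), F.D j *ᵥ ((b (j + 1)).equivFun x) = (b j).equivFun (δ j x) := fun j x =>
    LinearMap.toMatrix_mulVec_repr (b (j + 1)) (b j) (δ j) x
  let nx : ℕ → ℕ := fun j => (ComplexShape.down ℕ).next j
  have hZ : ∀ j (x : C.X j), (C.d j (nx j)).hom x = 0 ↔ (b j).equivFun x ∈ F.Z j := by
    intro j x
    cases j with
    | zero =>
      refine iff_of_true ?_ trivial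
      rw [C.shape _ _ (by simp [nx])]
      rfl
    | succ l =>
      have e : nx (l + 1) = l := ChainComplex.next_nat_succ l
      rw [MatCx.mem_Z_succ, hD, LinearEquiv.map_eq_zero_iff]
      have : ∀ (a : ℕ) (_ : a = l), (C.d (l + 1) a).hom x = 0 ↔ δ l x = 0 := by
        rintro a rfl; exact Iff.rfl
      exact this _ e
  have hB : ∀ j (x : C.X j), x ∈ LinearMap.range (δ j) ↔ (b j).equivFun x ∈ F.B j := by
    intro j x
    constructor
    · rintro ⟨w, rfl⟩
      exact ⟨_, hD j w⟩
    · rintro ⟨w, hw⟩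
      refine ⟨(b (j + 1)).equivFun.symm w, (b j).equivFun.injective ?_⟩
      rw [← hD, LinearEquiv.apply_symm_apply]
      exact hw
  have hbd' : ∀ j, k < j → F.r j = 0 := fun j hj => by
    haveI : Subsingleton (C.X j) := ModuleCat.subsingleton_of_isZero (hbd j hj)
    exact Module.finrank_zero_of_subsingleton
  have htor : ∀ a ∈ maximalIdeal A, ∀ j, ∀ v ∈ F.Z j, ∃ e : ℕ, a ^ e • v ∈ F.B j := by
    intro a ha j v hv
    obtain ⟨x, rfl⟩ := (b j).equivFun.surjective v
    let S := C.sc' (j + 1) j (nx j)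
    let e : C.homology j ≅ S.moduleCatLeftHomologyData.H :=
      C.homologyIsoSc' _ _ _ (ChainComplex.prev ℕ j) rfl ≪≫ S.moduleCatHomologyIso
    let H := LinearMap.ker S.g.hom ⧸ LinearMap.range S.moduleCatToCycles
    have hH : IsFiniteLength A H :=
      (hfl j).of_surjective (f := e.toLinearEquiv.toLinearMap) e.toLinearEquiv.surjective
    obtain ⟨N, hN⟩ := InjHullLib.exists_pow_smul_eq_zero hH
    refine ⟨N, ?_⟩
    have h1 := hN _ (Ideal.pow_mem_pow ha N)
      (Submodule.Quotient.mk (⟨x, (hZ j x).2 hv⟩ : LinearMap.ker S.g.hom))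
    rw [← Submodule.Quotient.mk_smul, Submodule.Quotient.mk_eq_zero] at h1
    obtain ⟨w, hw⟩ := h1
    rw [← map_smul, ← hB]
    exact ⟨w, congrArg Subtype.val hw⟩
  have hex := matrix_newIntersection p F k hbd' hdim htor i
  rw [← HomologicalComplex.exactAt_iff_isZero_homology,
    C.exactAt_iff' (i + 1) i (nx i) (ChainComplex.prev ℕ i) rfl, ShortComplex.moduleCat_exact_iff]
  intro x hx
  obtain ⟨w, hw⟩ := (hB i x).2 (hex ((hZ i x).1 hx))
  exact ⟨w, hw⟩

end Groth.Agent.NewIntersectLib
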