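import Groth.Agent.NewIntersectLib.CharP

/-!
# The canonical element theorem in characteristic `p`, for matrices
-/

set_option autoImplicit false
universe u

open Matrix IsLocalRing

namespace Groth.Agent.NewIntersectLib

theorem entries_mul_left {A : Type*} [CommRing A] (I : Ideal A) {p q r : ℕ} (M : Matrix (Fin p) (Fin q) A)
    (N : Matrix (Fin q) (Fin r) A) (h : ∀ i j, M i j ∈ I) (i : Fin p) (j : Fin r) : (M * N) i j ∈ I := by
  rw [Matrix.mul_apply]
  exact Submodule.sum_mem _ fun t _ => Ideal.mul_mem_right _ _ (h i t)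

theorem entries_mul_right {A : Type*} [CommRing A] (I : Ideal A) {p q r : ℕ} (M : Matrix (Fin p) (Fin q) A)
    (N : Matrix (Fin q) (Fin r) A) (h : ∀ i j, N i j ∈ I) (i : Fin p) (j : Fin r) : (M * N) i j ∈ I := by
  rw [Matrix.mul_apply]
  exact Submodule.sum_mem _ fun t _ => Ideal.mul_mem_left _ _ (h t j)

/-- lifting back a complex whose positive homology is killed by `C` gives a scalar up to homotopy -/
theorem compare {A : Type u} [CommRing A] (K F : MatCx A) (C : A) (I : Ideal A)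
    (hcyc : ∀ j v, v ∈ K.Z (j + 1) → C • v ∈ K.B (j + 1))
    (hDI : ∀ j s t, K.D j s t ∈ I)
    (P : ∀ j, Matrix (Fin (F.r j)) (Fin (K.r j)) A) (hP : ∀ j, F.D j * P (j + 1) = P j * K.D j)
    (G₀ : Matrix (Fin (K.r 0)) (Fin (F.r 0)) A) (U : Matrix (Fin (K.r 1)) (Fin (F.r 1)) A)
    (hU : G₀ * F.D 0 = K.D 0 * U) (V : Matrix (Fin (K.r 1)) (Fin (K.r 0)) A)
    (hV : G₀ * P 0 = 1 + K.D 0 * V) :
    ∀ j, ∃ (G : Matrix (Fin (K.r j)) (Fin (F.r j)) A) (G' : Matrix (Fin (K.r (j + 1))) (Fin (F.r (j + 1))) A)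
      (S : Matrix (Fin (K.r (j + 1))) (Fin (K.r j)) A) (T : Matrix (Fin (K.r j)) (Fin (K.r j)) A),
      K.D j * G' = C • (G * F.D j) ∧ C ^ j • (G * P j - C ^ j • 1) = K.D j * S + T ∧ T * K.D j = 0 ∧
        ∀ s t, T s t ∈ I := by
  have lift : ∀ (j n : ℕ) (g : Matrix (Fin (K.r (j + 1))) (Fin n) A), K.D j * g = 0 →
      ∃ g' : Matrix (Fin (K.r (j + 1 + 1))) (Fin n) A, K.D (j + 1) * g' = C • g := by
    intro j n g hg
    refine MatCx.exists_mul_of_forall_range _ _ fun l => ?_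
    refine hcyc j (fun i => g i l) ?_
    rw [MatCx.mem_Z_succ]
    funext i
    have := congrFun (congrFun hg i) l
    simpa [Matrix.mul_apply, Matrix.mulVec, dotProduct] using this
  intro j
  induction j with
  | zero =>
    refine ⟨G₀, C • U, V, 0, by rw [Matrix.mul_smul, hU], ?_, Matrix.zero_mul _, fun s t => I.zero_mem⟩
    rw [pow_zero, one_smul, one_smul, hV, add_sub_cancel_left, add_zero]
  | succ j ih =>
    obtain ⟨G, G', S, T, hG, hE, hT, -⟩ := ih
    obtain ⟨G'', hG''⟩ := lift j _ (G' * F.D (j + 1)) (by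
      rw [← Matrix.mul_assoc, hG, Matrix.smul_mul, Matrix.mul_assoc, F.DD, Matrix.mul_zero, smul_zero])
    have hW : K.D j * (C ^ j • (G' * P (j + 1) - C ^ (j + 1) • 1) - C • (S * K.D j)) = 0 := by
      have h1 := congrArg (fun M => C • (M * K.D j)) hE
      simp only [Matrix.smul_mul, Matrix.sub_mul, Matrix.one_mul, Matrix.add_mul, hT, add_zero, Matrix.mul_assoc,
        ← hP j] at h1
      rw [Matrix.mul_sub, Matrix.mul_smul, Matrix.mul_sub, ← Matrix.mul_assoc, hG, Matrix.smul_mul,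
        Matrix.mul_smul, Matrix.mul_one, Matrix.mul_smul, ← h1, sub_eq_zero, smul_comm C (C ^ j), Matrix.mul_assoc]
      simp only [smul_sub, smul_smul, pow_succ]
      congr 2
      ring
    obtain ⟨S', hS'⟩ := lift j _ _ hW
    refine ⟨G', G'', S', C • C • (S * K.D j), hG'', ?_, ?_, fun s t => ?_⟩
    · rw [hS', pow_succ', mul_smul, smul_sub (C) (C ^ j • _) (C • _), sub_add_cancel]
    · rw [Matrix.smul_mul, Matrix.smul_mul, Matrix.mul_assoc, K.DD, Matrix.mul_zero, smul_zero, smul_zero]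
    · exact I.mul_mem_left _ (I.mul_mem_left _ (entries_mul_right I _ _ (hDI j) s t))

/-- The core: in a complete local domain the top component of a comparison map is not zero modulo the maximal ideal. -/
theorem false_of_canon {A : Type u} [CommRing A] [IsLocalRing A] {A' : Type u} [CommRing A'] [IsDomain A']
    [IsLocalRing A'] [IsNoetherianRing A'] [IsAdicComplete (maximalIdeal A') A'] (p : ℕ) [Fact p.Prime]
    [CharP A' p] (θ₀ : A →+* A') (hθ : (maximalIdeal A).map θ₀ = maximalIdeal A')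
    (K F : MatCx A) (d : ℕ) (hbd : ∀ j, d < j → K.r j = 0) (hdim : ((d : ℕ) : WithBot ℕ∞) ≤ ringKrullDim A')
    (hh : maximalIdeal A ≤ (K.htpyIdeal (d + 2)).radical)
    (hDm : ∀ j s t, K.D j s t ∈ maximalIdeal A) (htop : K.r d ≠ 0)
    (P : ∀ j, Matrix (Fin (F.r j)) (Fin (K.r j)) A) (hP : ∀ j, F.D j * P (j + 1) = P j * K.D j)
    (hPd : ∀ s t, P d s t ∈ maximalIdeal A)
    (G₀ : Matrix (Fin (K.r 0)) (Fin (F.r 0)) A) (U : Matrix (Fin (K.r 1)) (Fin (F.r 1)) A)
    (hU : G₀ * F.D 0 = K.D 0 * U) (V : Matrix (Fin (K.r 1)) (Fin (K.r 0)) A)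
    (hV : G₀ * P 0 = 1 + K.D 0 * V) : False := by
  classical
  obtain ⟨d', c, y, hd, hc, hy, hcol⟩ := exists_col (A := A') p
  rw [hd, Nat.cast_le] at hdim
  let K' := K.map θ₀
  have hrad : maximalIdeal A' ≤ (K'.htpyIdeal (d + 2)).radical := by
    rw [← hθ, Ideal.map_le_iff_le_comap]
    intro a ha
    obtain ⟨M, H, hH⟩ := hh ha
    exact ⟨M, _, by rw [← map_pow]; exact hH.map K θ₀⟩
  choose M Hy hHy using fun i => hrad (hy i)
  let N := Finset.univ.sup M + 1
  have hN : ∀ i, ∃ H, K'.IsHtpy (y i ^ N) (d + 2) H := fun i => by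
    have : M i ≤ N := le_trans (Finset.le_sup (Finset.mem_univ i)) (Nat.le_succ _)
    obtain ⟨f, hf⟩ := Nat.exists_eq_add_of_le this
    rw [hf, add_comm, pow_add]
    exact ⟨_, (hHy i).smul K' (y i ^ f)⟩
  choose HN hHN using hN
  let C := c ^ (d + 1)
  have key : ∀ e : ℕ, C ^ (d + d) ∈ maximalIdeal A' ^ (p ^ e) := by
    intro e
    let φ := iterateFrobenius A' p e
    let K'' := K'.map φ
    let ψ := φ.comp θ₀
    have hH'' : ∀ i, K''.IsHtpy (y i ^ (N * p ^ e)) (d + 2) (fun t => (HN i t).map φ) := fun i => by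
      have := (hHN i).map K' φ
      rwa [iterateFrobenius_def, ← pow_mul] at this
    have hcyc : ∀ j v, v ∈ K''.Z (j + 1) → C • v ∈ K''.B (j + 1) := by
      intro j v hv
      by_cases hjd : d < j + 1
      · have h0 : K''.r (j + 1) = 0 := hbd (j + 1) hjd
        rw [show C • v = 0 from funext fun s => absurd s.2 (by omega)]
        exact zero_mem _
      set l := (List.finRange d').take (d + 1 - (j + 1)) with hl
      have hlen : l.length = d + 1 - (j + 1) := by
        rw [hl, List.length_take, List.length_finRange]; omega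
      rw [MatCx.mem_Z_succ] at hv
      have hPr : ∀ i ∈ l, ∀ s, (K''.D (j + 1) *ᵥ ((HN i (j + 1)).map φ *ᵥ v)) s - y i ^ (N * p ^ e) * v s
          ∈ (⊥ : Ideal A') := by
        intro i _ s
        rw [Ideal.mem_bot, sub_eq_zero]
        have h1 := congrArg (fun M => (M *ᵥ v) s) ((hH'' i).2 j (by omega))
        simp only [Matrix.add_mulVec, Matrix.smul_mulVec, Matrix.one_mulVec, Pi.smul_apply, Pi.add_apply,
          smul_eq_mul] at h1
        rw [← Matrix.mulVec_mulVec] at h1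
        refine (add_eq_left.mpr ?_).symm.trans h1
        erw [← Matrix.mulVec_mulVec, hv, Matrix.mulVec_zero]
        rfl
      obtain ⟨w, hw⟩ := pow_smul_mem K'' c (fun i => y i ^ (N * p ^ e)) (fun i t => (HN i t).map φ) d hH'' l ⊥
        (hcol (N * p ^ e) (by have := (Fact.out : p.Prime).pos; positivity) (d + 1 - (j + 1)) (by omega))
        (j + 1) v (hbd _ (by omega)) (by omega) hPr
      have h2 : c ^ l.length • v ∈ K''.B (j + 1) :=
        ⟨w, funext fun s => (sub_eq_zero.mp (hw s)).symm⟩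
      obtain ⟨f, hf⟩ := Nat.exists_eq_add_of_le (show l.length ≤ d + 1 by omega)
      have h6 : C • v = c ^ f • (c ^ l.length • v) := by
        rw [smul_smul, ← pow_add, show f + l.length = d + 1 by omega]
      rw [h6]
      exact Submodule.smul_mem _ _ h2
    let I : Ideal A' := maximalIdeal A' ^ (p ^ e)
    have hI : ∀ a, a ∈ maximalIdeal A → ψ a ∈ I := fun a ha => by
      show φ (θ₀ a) ∈ I
      rw [iterateFrobenius_def]
      exact Ideal.pow_mem_pow (hθ ▸ Ideal.mem_map_of_mem θ₀ ha) _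
    obtain ⟨G, G', S, T, -, hE, -, hT⟩ := compare (K.map ψ) (F.map ψ) C I hcyc (fun j s t => hI _ (hDm j s t))
      (fun j => (P j).map ψ) (fun j => by
        change (F.D j).map ψ * (P (j + 1)).map ψ = (P j).map ψ * (K.D j).map ψ
        rw [← Matrix.map_mul, ← Matrix.map_mul, hP])
      (G₀.map ψ) (U.map ψ) (by
        change G₀.map ψ * (F.D 0).map ψ = (K.D 0).map ψ * U.map ψ
        rw [← Matrix.map_mul, ← Matrix.map_mul, hU])
      (V.map ψ) (by
        change G₀.map ψ * (P 0).map ψ = (1 : Matrix (Fin (K.r 0)) (Fin (K.r 0)) A') + (K.D 0).map ψ * V.map ψ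
        rw [← Matrix.map_mul, ← Matrix.map_mul, hV, Matrix.map_add _ (map_add ψ),
          Matrix.map_one _ (map_zero ψ) (map_one ψ)]) d
    let s₀ : Fin ((K.map ψ).r d) := ⟨0, Nat.pos_of_ne_zero htop⟩
    have h3 := congrFun (congrFun hE s₀) s₀
    simp only [Matrix.smul_apply, Matrix.sub_apply, Matrix.add_apply, Matrix.one_apply_eq, smul_eq_mul, mul_one] at h3
    have h4 : ((K.map ψ).D d * S) s₀ s₀ + T s₀ s₀ ∈ I :=
      I.add_mem (entries_mul_left I _ _ (fun s t => hI _ (hDm d s t)) _ _) (hT _ _)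
    rw [← h3, mul_sub, ← pow_add] at h4
    let Pd : Matrix (Fin ((F.map ψ).r d)) (Fin ((K.map ψ).r d)) A' := (P d).map ψ
    have h5 : C ^ d * (G * Pd) s₀ s₀ ∈ I :=
      I.mul_mem_left _ (entries_mul_right I G Pd (fun s t => hI _ (hPd s t)) _ _)
    have h6 := I.sub_mem h5 h4
    simp only [Pd, sub_sub_cancel] at h6
    exact h6
  have : C ^ (d + d) ∈ (⨅ n : ℕ, maximalIdeal A' ^ n) := by
    rw [Ideal.mem_iInf]
    intro n
    exact Ideal.pow_le_pow_right (Nat.lt_pow_self (Fact.out : p.Prime).one_lt).le (key n)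
  rw [Ideal.iInf_pow_eq_bot_of_isLocalRing _ (maximalIdeal.isMaximal A').ne_top, Ideal.mem_bot] at this
  exact pow_ne_zero _ (pow_ne_zero _ hc) this

/-- The canonical element theorem in characteristic `p`, matrix form. -/
theorem matrix_canon {A : Type u} [CommRing A] [IsLocalRing A] [IsNoetherianRing A] (p : ℕ) [Fact p.Prime]
    [CharP A p] (K F : MatCx A) (d : ℕ) (hbd : ∀ j, d < j → K.r j = 0)
    (hdim : ((d : ℕ) : WithBot ℕ∞) ≤ ringKrullDim A)
    (hh : maximalIdeal A ≤ (K.htpyIdeal (d + 2)).radical)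
    (hDm : ∀ j s t, K.D j s t ∈ maximalIdeal A) (htop : K.r d ≠ 0)
    (P : ∀ j, Matrix (Fin (F.r j)) (Fin (K.r j)) A) (hP : ∀ j, F.D j * P (j + 1) = P j * K.D j)
    (hPd : ∀ s t, P d s t ∈ maximalIdeal A)
    (G₀ : Matrix (Fin (K.r 0)) (Fin (F.r 0)) A) (U : Matrix (Fin (K.r 1)) (Fin (F.r 1)) A)
    (hU : G₀ * F.D 0 = K.D 0 * U) (V : Matrix (Fin (K.r 1)) (Fin (K.r 0)) A)
    (hV : G₀ * P 0 = 1 + K.D 0 * V) : False := by
  obtain ⟨_, _, _, hmap, -⟩ := CohenLib.completion_facts A (maximalIdeal A) (maximalIdeal.isMaximal A).ne_top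
  let C := AdicCompletion (maximalIdeal A) A
  haveI : IsAdicComplete (maximalIdeal C) C :=
    hmap ▸ AdicRingLib.isAdicComplete_map (IsNoetherian.noetherian (maximalIdeal A))
  have hdC : ((d : ℕ) : WithBot ℕ∞) ≤ ringKrullDim C := by
    rwa [CohenLib.ringKrullDim_adicCompletion A _ (maximalIdeal.isMaximal A).ne_top]
  obtain ⟨s, hs⟩ := Order.le_krullDim_iff.mp hdC
  let Q := s.head.asIdeal
  haveI : Nontrivial (C ⧸ Q) := Ideal.Quotient.nontrivial_iff.mpr s.head.isPrime.ne_top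
  haveI : IsLocalRing (C ⧸ Q) := IsLocalRing.of_surjective' _ Ideal.Quotient.mk_surjective
  haveI := NormalLib.isAdicComplete_quotient_local Q
  haveI : CharP (C ⧸ Q) p := (CharP.charP_iff_prime_eq_zero Fact.out).mpr (by
    rw [← map_natCast ((Ideal.Quotient.mk Q).comp (algebraMap A C)), CharP.cast_eq_zero, map_zero])
  have hdQ : ((d : ℕ) : WithBot ℕ∞) ≤ ringKrullDim (C ⧸ Q) := by
    rw [ringKrullDim_quotient]
    have hmem : ∀ i, s i ∈ PrimeSpectrum.zeroLocus (Q : Set C) := fun i => s.monotone (Fin.zero_le i)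
    let s' : LTSeries (PrimeSpectrum.zeroLocus (Q : Set C)) :=
      LTSeries.mk s.length (fun i => ⟨s i, hmem i⟩) (fun a b hab => s.strictMono hab)
    rw [← hs]
    exact Order.LTSeries.length_le_krullDim s'
  refine false_of_canon p ((Ideal.Quotient.mk Q).comp (algebraMap A C)) ?_ K F d hbd hdQ hh hDm htop P hP hPd
    G₀ U hU V hV
  rw [← Ideal.map_map, hmap]
  exact IsLocalRing.map_maximalIdeal_of_surjective _ Ideal.Quotient.mk_surjective

end Groth.Agent.NewIntersectLib
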