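import Groth.Agent.NewIntersectLib.Colon
import Groth.Agent.AdicRingLib.Completion
import Groth.Agent.NormalLib.CompleteLocal

/-!
# The new intersection theorem in characteristic `p`, for matrices
-/

set_option autoImplicit false
universe u

open Matrix IsLocalRing

namespace Groth.Agent.NewIntersectLib

variable {A : Type u} [CommRing A]

namespace MatCx

variable (F : MatCx A)

/-- cycles -/
def Z : ∀ j, Submodule A (Fin (F.r j) → A)
  | 0 => ⊤
  | j + 1 => LinearMap.ker (F.D j).mulVecLin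

/-- boundaries -/
def B (j : ℕ) : Submodule A (Fin (F.r j) → A) := LinearMap.range (F.D j).mulVecLin

theorem mem_Z_succ {j : ℕ} {v : Fin (F.r (j + 1)) → A} : v ∈ F.Z (j + 1) ↔ F.D j *ᵥ v = 0 := Iff.rfl

theorem exists_uniform [IsNoetherianRing A] (a : A) (j : ℕ)
    (h : ∀ v ∈ F.Z j, ∃ e : ℕ, a ^ e • v ∈ F.B j) : ∃ e : ℕ, ∀ v ∈ F.Z j, a ^ e • v ∈ F.B j := by
  classical
  obtain ⟨T, hT⟩ := IsNoetherian.noetherian (F.Z j)
  choose e he using h
  refine ⟨T.attach.sup fun t => e t.1 (hT ▸ Submodule.subset_span t.2), fun v hv => ?_⟩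
  rw [← hT] at hv
  induction hv using Submodule.span_induction with
  | mem t ht =>
    obtain ⟨f, hf⟩ := Nat.exists_eq_add_of_le
      (Finset.le_sup (f := fun t : T => e t.1 (hT ▸ Submodule.subset_span t.2)) (Finset.mem_attach T ⟨t, ht⟩))
    rw [hf, add_comm, pow_add, mul_smul]
    exact Submodule.smul_mem _ _ (he t _)
  | zero => simp
  | add x y _ _ hx hy => rw [smul_add]; exact add_mem hx hy
  | smul c x _ hx => rw [smul_comm]; exact Submodule.smul_mem _ c hx

theorem exists_htpy' [IsNoetherianRing A] (a : A) (n : ℕ)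
    (h : ∀ j, j < n → ∀ v ∈ F.Z j, ∃ e : ℕ, a ^ e • v ∈ F.B j) :
    ∃ M : ℕ, ∃ H, F.IsHtpy (a ^ M) n H :=
  F.exists_htpy a n
    (fun hn => (F.exists_uniform a 0 (h 0 hn)).imp fun _ he v => he v trivial)
    (fun j hj => (F.exists_uniform a (j + 1) (h (j + 1) hj)).imp fun _ he v hv => he v hv)

/-- exactness below `j` gives a projection onto the cycles in degree `j` -/
theorem exists_proj [IsNoetherianRing A] (j : ℕ) (h : ∀ i, i < j → F.Z i ≤ F.B i) :
    ∃ π : (Fin (F.r j) → A) →ₗ[A] (Fin (F.r j) → A), (∀ v, π v ∈ F.Z j) ∧ ∀ v ∈ F.Z j, π v = v := by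
  cases j with
  | zero => exact ⟨LinearMap.id, fun _ => trivial, fun _ _ => rfl⟩
  | succ n =>
    obtain ⟨M, H, hH⟩ := F.exists_htpy' (1 : A) (n + 1)
      (fun i hi v hv => ⟨0, by rw [pow_zero, one_smul]; exact h i hi hv⟩)
    rw [one_pow] at hH
    refine ⟨LinearMap.id - (H n).mulVecLin ∘ₗ (F.D n).mulVecLin, fun v => ?_, fun v hv => ?_⟩
    · rw [mem_Z_succ]
      simp only [LinearMap.sub_apply, LinearMap.id_coe, id_eq, LinearMap.comp_apply, Matrix.mulVecLin_apply,
        Matrix.mulVec_sub, Matrix.mulVec_mulVec]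
      cases n with
      | zero =>
        have h1 := hH.1 Nat.one_pos
        rw [one_smul] at h1
        rw [← Matrix.mul_assoc, show F.D 0 * H 0 = 1 from h1, Matrix.one_mul, sub_self]
      | succ m =>
        have h1 := hH.2 m (by omega)
        rw [one_smul] at h1
        have h2 : F.D (m + 1) * H (m + 1) * F.D (m + 1) = F.D (m + 1) := by
          rw [eq_sub_of_add_eq h1, Matrix.sub_mul, Matrix.one_mul, Matrix.mul_assoc, F.DD, Matrix.mul_zero,
            sub_zero]
        rw [← Matrix.mul_assoc, h2, sub_self]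
    · rw [mem_Z_succ] at hv
      simp [hv]

theorem exists_functional [IsLocalRing A] [IsNoetherianRing A] (j : ℕ)
    (hlow : ∀ i, i < j → F.Z i ≤ F.B i) (hj : ¬ F.Z j ≤ F.B j) :
    ∃ (m : Fin (F.r j) → A) (u : Fin (F.r j) → A), m ∈ F.Z j ∧ IsUnit (u ⬝ᵥ m) ∧
      ∀ i, (u ᵥ* F.D j) i ∈ maximalIdeal A := by
  classical
  obtain ⟨π, hπZ, hπ⟩ := F.exists_proj j hlow
  let red : (Fin (F.r j) → A) → (Fin (F.r j) → ResidueField A) := fun v s => residue A (v s)
  let W : Submodule (ResidueField A) (Fin (F.r j) → ResidueField A) :=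
    Submodule.span (ResidueField A) (Set.range fun i => red (fun s => F.D j s i))
  have hW : ∀ x ∈ W, ∃ w, red (F.D j *ᵥ w) = x := by
    intro x hx
    induction hx using Submodule.span_induction with
    | mem x hx =>
      obtain ⟨i, rfl⟩ := hx
      refine ⟨Pi.single i 1, funext fun s => ?_⟩
      simp [red, Matrix.mulVec_single]
    | zero => exact ⟨0, funext fun s => by simp [red]⟩
    | add x y _ _ hx hy =>
      obtain ⟨a, rfl⟩ := hx
      obtain ⟨b, rfl⟩ := hy
      exact ⟨a + b, funext fun s => by simp [red, Matrix.mulVec_add]⟩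
    | smul c x _ hx =>
      obtain ⟨a, rfl⟩ := hx
      obtain ⟨c, rfl⟩ := residue_surjective c
      exact ⟨c • a, funext fun s => by simp [red, Matrix.mulVec_smul]⟩
  obtain ⟨m, hmZ, hm⟩ : ∃ m ∈ F.Z j, red m ∉ W := by
    by_contra hcon
    push Not at hcon
    apply hj
    refine Submodule.le_of_le_smul_of_le_jacobson_bot (IsNoetherian.noetherian (F.Z j))
      (maximalIdeal_le_jacobson _) ?_
    intro z hz
    obtain ⟨w, hw⟩ := hW _ (hcon z hz)
    have hx : ∀ s, z s - (F.D j *ᵥ w) s ∈ maximalIdeal A := fun s => by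
      rw [← residue_eq_zero_iff, map_sub, sub_eq_zero]
      exact (congrFun hw s).symm
    have hDw : F.D j *ᵥ w ∈ F.Z j := by
      cases j with
      | zero => trivial
      | succ n => rw [mem_Z_succ, Matrix.mulVec_mulVec, F.DD, Matrix.zero_mulVec]
    refine Submodule.mem_sup.mpr ⟨F.D j *ᵥ w, ⟨w, rfl⟩, π (z - F.D j *ᵥ w), ?_,
      by rw [map_sub, hπ z hz, hπ _ hDw, add_sub_cancel]⟩
    rw [show (z - F.D j *ᵥ w) = ∑ s, (z s - (F.D j *ᵥ w) s) • (Pi.single s 1 : Fin (F.r j) → A) from by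
      funext t; simp [Finset.sum_apply, Pi.single_apply], map_sum]
    refine Submodule.sum_mem _ fun s _ => ?_
    rw [map_smul]
    exact Submodule.smul_mem_smul (hx s) (hπZ _)
  obtain ⟨f, hf, hfW⟩ := Submodule.exists_dual_map_eq_bot_of_notMem hm inferInstance
  choose u hu using fun s => residue_surjective (R := A) (f (Pi.single s 1))
  have key : ∀ v : Fin (F.r j) → A, residue A (u ⬝ᵥ v) = f (red v) := fun v => by
    conv_rhs => rw [show red v = ∑ s, residue A (v s) • (Pi.single s 1 : Fin (F.r j) → ResidueField A) from by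
      funext t; simp [red, Finset.sum_apply, Pi.single_apply]]
    rw [map_sum, dotProduct, map_sum]
    refine Finset.sum_congr rfl fun s _ => ?_
    rw [map_mul, map_smul, hu, smul_eq_mul, mul_comm]
  refine ⟨m, u, hmZ, ?_, fun i => ?_⟩
  · rw [← residue_ne_zero_iff_isUnit, key]
    exact hf
  · rw [← residue_eq_zero_iff]
    show residue A (u ⬝ᵥ fun s => F.D j s i) = 0
    rw [key]
    have : f (red fun s => F.D j s i) ∈ W.map f := ⟨_, Submodule.subset_span ⟨i, rfl⟩, rfl⟩
    rwa [hfW, Submodule.mem_bot] at this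

theorem map_map_mulVec {B : Type*} [CommRing B] (θ : A →+* B) {p q : ℕ} (D : Matrix (Fin p) (Fin q) A)
    (v : Fin q → A) : (D.map θ) *ᵥ (θ ∘ v) = θ ∘ (D *ᵥ v) := by
  funext s
  simp [Matrix.mulVec, dotProduct, map_sum, map_mul]

end MatCx

/-- The core: no nonzero homology in a complete local domain of dimension `> k`. -/
theorem false_of_data [IsLocalRing A] [IsNoetherianRing A] {A' : Type u} [CommRing A'] [IsDomain A']
    [IsLocalRing A'] [IsNoetherianRing A'] [IsAdicComplete (maximalIdeal A') A'] (p : ℕ) [Fact p.Prime]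
    [CharP A' p] (θ₀ : A →+* A') (hθ : (maximalIdeal A).map θ₀ = maximalIdeal A')
    (F : MatCx A) (k : ℕ) (hbd : ∀ j, k < j → F.r j = 0) (hdim : ((k + 1 : ℕ) : WithBot ℕ∞) ≤ ringKrullDim A')
    (hh : maximalIdeal A ≤ (F.htpyIdeal (k + 2)).radical)
    (j : ℕ) (hjk : j ≤ k) (m u : Fin (F.r j) → A) (hm : m ∈ F.Z j) (hu : IsUnit (u ⬝ᵥ m))
    (huD : ∀ i, (u ᵥ* F.D j) i ∈ maximalIdeal A) : False := by
  classical
  obtain ⟨d, c, y, hd, hc, hy, hcol⟩ := exists_col (A := A') p
  rw [hd, Nat.cast_le] at hdim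
  let F' := F.map θ₀
  have hrad : maximalIdeal A' ≤ (F'.htpyIdeal (k + 2)).radical := by
    rw [← hθ, Ideal.map_le_iff_le_comap]
    intro a ha
    obtain ⟨M, H, hH⟩ := hh ha
    exact ⟨M, _, by rw [← map_pow]; exact hH.map F θ₀⟩
  choose M Hy hHy using fun i => hrad (hy i)
  let N := Finset.univ.sup M + 1
  have hN : ∀ i, ∃ H, F'.IsHtpy (y i ^ N) (k + 2) H := fun i => by
    have : M i ≤ N := le_trans (Finset.le_sup (Finset.mem_univ i)) (Nat.le_succ _)
    obtain ⟨f, hf⟩ := Nat.exists_eq_add_of_le this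
    rw [hf, add_comm, pow_add]
    exact ⟨_, (hHy i).smul F' (y i ^ f)⟩
  choose HN hHN using hN
  set l := (List.finRange d).take (k + 1 - j) with hl
  have hlen : l.length = k + 1 - j := by
    rw [hl, List.length_take, List.length_finRange]; omega
  -- the key membership, for every Frobenius exponent
  have key : ∀ e : ℕ, c ^ l.length ∈ maximalIdeal A' ^ (p ^ e) := by
    intro e
    let φ := iterateFrobenius A' p e
    let F'' := F'.map φ
    have hH'' : ∀ i, F''.IsHtpy (y i ^ (N * p ^ e)) (k + 2) (fun t => (HN i t).map φ) := fun i => by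
      have := (hHN i).map F' φ
      rwa [iterateFrobenius_def, ← pow_mul] at this
    let m'' : Fin (F''.r j) → A' := fun s => φ (θ₀ (m s))
    have hP : ∀ i ∈ l, ∀ s, (F''.D j *ᵥ ((HN i j).map φ *ᵥ m'')) s - y i ^ (N * p ^ e) * m'' s ∈ (⊥ : Ideal A') := by
      intro i _ s
      rw [Ideal.mem_bot, sub_eq_zero]
      cases j with
      | zero =>
        have h1 := congrArg (fun M => (M *ᵥ m'') s) ((hH'' i).1 (by omega))
        simp only [← Matrix.mulVec_mulVec, Matrix.smul_mulVec, Matrix.one_mulVec, Pi.smul_apply, smul_eq_mul] at h1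
        exact h1
      | succ n =>
        have hDm : F''.D n *ᵥ m'' = 0 := by
          change ((F.D n).map θ₀).map φ *ᵥ (φ ∘ (θ₀ ∘ m)) = 0
          erw [MatCx.map_map_mulVec φ ((F.D n).map θ₀) (θ₀ ∘ m), MatCx.map_map_mulVec θ₀ (F.D n) m,
            F.mem_Z_succ.mp hm]
          funext t
          simp
        have h1 := congrArg (fun M => (M *ᵥ m'') s) ((hH'' i).2 n (by omega))
        simp only [Matrix.add_mulVec, Matrix.smul_mulVec, Matrix.one_mulVec, Pi.smul_apply,
          Pi.add_apply, smul_eq_mul] at h1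
        rw [← Matrix.mulVec_mulVec] at h1
        refine (add_eq_left.mpr ?_).symm.trans h1
        erw [← Matrix.mulVec_mulVec, hDm, Matrix.mulVec_zero]
        rfl
    obtain ⟨v, hv⟩ := pow_smul_mem F'' c (fun i => y i ^ (N * p ^ e)) (fun i t => (HN i t).map φ) k hH'' l ⊥
      (hcol (N * p ^ e) (by have := (Fact.out : p.Prime).pos; positivity) (k + 1 - j) (by omega)) j m''
      (hbd _ (by omega)) (by omega) hP
    let u'' : Fin (F''.r j) → A' := fun s => φ (θ₀ (u s))
    have h1 : c ^ l.length * φ (θ₀ (u ⬝ᵥ m)) = u'' ⬝ᵥ (F''.D j *ᵥ v) := by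
      have h2 : ∀ s, c ^ l.length * m'' s = (F''.D j *ᵥ v) s := fun s => sub_eq_zero.mp (hv s)
      show c ^ l.length * φ (θ₀ (∑ s, u s * m s)) = ∑ s, u'' s * (F''.D j *ᵥ v) s
      rw [map_sum, map_sum, Finset.mul_sum]
      refine Finset.sum_congr rfl fun s _ => ?_
      rw [← h2 s, map_mul, map_mul]
      simp only [u'', m'']
      ring
    have h3 : u'' ⬝ᵥ (F''.D j *ᵥ v) ∈ maximalIdeal A' ^ (p ^ e) := by
      rw [Matrix.dotProduct_mulVec]
      refine Submodule.sum_mem _ fun i _ => Ideal.mul_mem_right _ _ ?_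
      have : (u'' ᵥ* F''.D j) i = φ (θ₀ ((u ᵥ* F.D j) i)) := by
        simp only [Matrix.vecMul, dotProduct, map_sum, map_mul]
        rfl
      rw [this, iterateFrobenius_def]
      exact Ideal.pow_mem_pow (hθ ▸ Ideal.mem_map_of_mem θ₀ (huD i)) _
    rw [← h1] at h3
    exact (Ideal.mul_unit_mem_iff_mem _ ((hu.map θ₀).map φ)).mp h3
  have : c ^ l.length ∈ (⨅ n : ℕ, maximalIdeal A' ^ n) := by
    rw [Ideal.mem_iInf]
    intro n
    exact Ideal.pow_le_pow_right (Nat.lt_pow_self (Fact.out : p.Prime).one_lt).le (key n)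
  rw [Ideal.iInf_pow_eq_bot_of_isLocalRing _ (maximalIdeal.isMaximal A').ne_top, Ideal.mem_bot] at this
  exact pow_ne_zero _ hc this

/-- The new intersection theorem in characteristic `p`, matrix form. -/
theorem matrix_newIntersection [IsLocalRing A] [IsNoetherianRing A] (p : ℕ) [Fact p.Prime] [CharP A p]
    (F : MatCx A) (k : ℕ) (hbd : ∀ j, k < j → F.r j = 0)
    (hdim : ((k + 1 : ℕ) : WithBot ℕ∞) ≤ ringKrullDim A)
    (htor : ∀ a ∈ maximalIdeal A, ∀ j, ∀ v ∈ F.Z j, ∃ e : ℕ, a ^ e • v ∈ F.B j) :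
    ∀ j, F.Z j ≤ F.B j := by
  intro j
  induction j using Nat.strong_induction_on with
  | _ j ih =>
    by_contra hj
    have hjk : j ≤ k := by
      by_contra h
      apply hj
      intro v _
      have h0 := hbd j (not_le.mp h)
      have : v = 0 := funext fun s => absurd s.2 (by omega)
      rw [this]
      exact zero_mem _
    obtain ⟨m, u, hm, hu, huD⟩ := F.exists_functional j ih hj
    obtain ⟨_, _, _, hmap, -⟩ := CohenLib.completion_facts A (maximalIdeal A) (maximalIdeal.isMaximal A).ne_top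
    let C := AdicCompletion (maximalIdeal A) A
    haveI : IsAdicComplete (maximalIdeal C) C :=
      hmap ▸ AdicRingLib.isAdicComplete_map (IsNoetherian.noetherian (maximalIdeal A))
    have hdC : ((k + 1 : ℕ) : WithBot ℕ∞) ≤ ringKrullDim C := by
      rwa [CohenLib.ringKrullDim_adicCompletion A _ (maximalIdeal.isMaximal A).ne_top]
    obtain ⟨s, hs⟩ := Order.le_krullDim_iff.mp hdC
    let P := s.head.asIdeal
    haveI : Nontrivial (C ⧸ P) := Ideal.Quotient.nontrivial_iff.mpr s.head.isPrime.ne_top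
    haveI : IsLocalRing (C ⧸ P) := IsLocalRing.of_surjective' _ Ideal.Quotient.mk_surjective
    haveI := NormalLib.isAdicComplete_quotient_local P
    haveI : CharP (C ⧸ P) p := (CharP.charP_iff_prime_eq_zero Fact.out).mpr (by
      rw [← map_natCast ((Ideal.Quotient.mk P).comp (algebraMap A C)), CharP.cast_eq_zero, map_zero])
    have hdP : ((k + 1 : ℕ) : WithBot ℕ∞) ≤ ringKrullDim (C ⧸ P) := by
      rw [ringKrullDim_quotient]
      have hmem : ∀ i, s i ∈ PrimeSpectrum.zeroLocus (P : Set C) := fun i => s.monotone (Fin.zero_le i)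
      let s' : LTSeries (PrimeSpectrum.zeroLocus (P : Set C)) :=
        LTSeries.mk s.length (fun i => ⟨s i, hmem i⟩) (fun a b hab => s.strictMono hab)
      rw [← hs]
      exact Order.LTSeries.length_le_krullDim s'
    refine false_of_data p ((Ideal.Quotient.mk P).comp (algebraMap A C)) ?_ F k hbd hdP ?_ j hjk m u hm hu huD
    · rw [← Ideal.map_map, hmap]
      exact IsLocalRing.map_maximalIdeal_of_surjective _ Ideal.Quotient.mk_surjective
    · intro a ha
      obtain ⟨M, H, hH⟩ := F.exists_htpy' a (k + 2) (fun i _ => htor a ha i)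
      exact ⟨M, H, hH⟩

end Groth.Agent.NewIntersectLib
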