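import Groth.Agent.NewIntersectLib.Core
import Groth.Agent.CommAlgDim.CM
import Groth.Agent.CommAlgDim.Integral
import Groth.Agent.CohenLib.Normalization
import Groth.Agent.CohenLib.FSRegular
import Groth.Agent.CohenLib.FlatUnramified

/-!
# A nonzero element killing the colon ideals of powers of parameters in a complete domain
-/

set_option autoImplicit false
universe u

open IsLocalRing RingTheory.Sequence
open scoped Pointwise

namespace Groth.Agent.NewIntersectLib

theorem isRegular_map_pow {R : Type u} [CommRing R] [IsLocalRing R] [IsNoetherianRing R]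
    (hR : CommAlgDim.IsCM R) {rs : List R} (h : IsRegular R rs) (hdim : ringKrullDim R = rs.length)
    {M : ℕ} (hM : M ≠ 0) : IsRegular R (rs.map (· ^ M)) := by
  have hm := CommAlgDim.mem_maximalIdeal_of_isRegular h
  refine CommAlgDim.isRegular_of_dim hR ?_ ?_
  · intro r hr
    obtain ⟨x, hx, rfl⟩ := List.mem_map.mp hr
    exact Ideal.pow_mem_of_mem _ (hm x hx) M (Nat.pos_of_ne_zero hM)
  · have hz : PrimeSpectrum.zeroLocus ((Ideal.ofList (rs.map (· ^ M)) : Ideal R) : Set R) =
        PrimeSpectrum.zeroLocus ((Ideal.ofList rs : Ideal R) : Set R) := by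
      ext P
      simp only [Ideal.ofList, PrimeSpectrum.zeroLocus_span, PrimeSpectrum.mem_zeroLocus]
      refine ⟨fun hP x hx => P.isPrime.mem_of_pow_mem M (hP (List.mem_map.mpr ⟨x, hx, rfl⟩)), fun hP x hx => ?_⟩
      obtain ⟨y, hy, rfl⟩ := List.mem_map.mp hx
      exact Ideal.pow_mem_of_mem _ (hP hy) M (Nat.pos_of_ne_zero hM)
    have h2 : ringKrullDim (R ⧸ Ideal.ofList (rs.map (· ^ M))) = ringKrullDim (R ⧸ Ideal.ofList rs) := by
      rw [ringKrullDim_quotient, ringKrullDim_quotient, hz]
    rw [h2, List.length_map, ringKrullDim_add_length_eq_ringKrullDim_of_isRegular rs h]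

theorem exists_free_absorbing {R A : Type u} [CommRing R] [IsDomain R] [CommRing A] [IsDomain A]
    [Algebra R A] [Module.Finite R A] (hinj : Function.Injective (algebraMap R A)) :
    ∃ (c : R) (n : ℕ) (g : Fin n → A) (φ : A →ₗ[R] (Fin n → R)), c ≠ 0 ∧
      ∀ a, c • a = ∑ i, φ a i • g i := by
  classical
  obtain ⟨T, hT⟩ := Module.Finite.fg_top (R := R) (M := A)
  obtain ⟨s, hs, hmax⟩ := exists_maximal_linearIndepOn R (fun t : T => (t : A))
  haveI : Fintype s := Fintype.ofFinite s
  let e := (Fintype.equivFin s).symm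
  let g : Fin (Fintype.card s) → A := fun i => ((e i).1 : A)
  have hli : LinearIndependent R g := LinearIndependent.comp hs e e.injective
  have hspan : Submodule.span R (Set.range g) = Submodule.span R ((fun t : T => (t : A)) '' s) := by
    congr 1
    ext a
    constructor
    · rintro ⟨i, rfl⟩; exact ⟨(e i).1, (e i).2, rfl⟩
    · rintro ⟨t, ht, rfl⟩
      exact ⟨e.symm ⟨t, ht⟩, by simp [g]⟩
  have hc : ∀ t : T, ∃ c : R, c ≠ 0 ∧ c • (t : A) ∈ Submodule.span R (Set.range g) := by
    intro t
    by_cases ht : t ∈ s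
    · refine ⟨1, one_ne_zero, ?_⟩
      rw [one_smul, hspan]
      exact Submodule.subset_span ⟨t, ht, rfl⟩
    · obtain ⟨a, ha, ha'⟩ := hmax t ht
      exact ⟨a, ha, by rwa [hspan]⟩
  choose c hc0 hc using hc
  have hprod : ∀ a : A, (∏ t : T, c t) • a ∈ Submodule.span R (Set.range g) := by
    intro a
    have ha : a ∈ Submodule.span R (T : Set A) := by rw [hT]; trivial
    induction ha using Submodule.span_induction with
    | mem x hx =>
      rw [← Finset.mul_prod_erase Finset.univ c (Finset.mem_univ ⟨x, hx⟩), mul_comm, mul_smul]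
      exact Submodule.smul_mem _ _ (hc ⟨x, hx⟩)
    | zero => simp
    | add x y _ _ hx hy => rw [smul_add]; exact add_mem hx hy
    | smul r x _ hx => rw [smul_comm]; exact Submodule.smul_mem _ _ hx
  let b := Module.Basis.span hli
  let φ : A →ₗ[R] (Fin (Fintype.card s) → R) :=
    b.equivFun.toLinearMap.comp (LinearMap.codRestrict _ ((∏ t : T, c t) • LinearMap.id) hprod)
  refine ⟨∏ t : T, c t, _, g, φ, Finset.prod_ne_zero_iff.mpr fun t _ => hc0 t, fun a => ?_⟩
  have h1 := congrArg (Submodule.subtype _) (b.sum_equivFun ⟨_, hprod a⟩)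
  simp only [map_sum, map_smul, Submodule.subtype_apply] at h1
  rw [← h1]
  refine Finset.sum_congr rfl fun i _ => ?_
  rw [Module.Basis.span_apply]
  rfl

theorem coord_mem {R A : Type u} [CommRing R] [CommRing A] [Algebra R A] (f : A →ₗ[R] R) (J : Ideal R)
    {x : A} (hx : x ∈ J.map (algebraMap R A)) : f x ∈ J := by
  rw [← Submodule.restrictScalars_mem R, ← Ideal.smul_top_eq_map] at hx
  refine Submodule.smul_induction_on hx (fun r hr a _ => ?_) (fun a b ha hb => ?_)
  · rw [map_smul, smul_eq_mul]
    exact Ideal.mul_mem_right _ _ hr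
  · rw [map_add]
    exact add_mem ha hb

theorem col_of_regular {R A : Type u} [CommRing R] [IsDomain R] [CommRing A] [IsDomain A] [Algebra R A]
    {c : R} {n : ℕ} (g : Fin n → A) (φ : A →ₗ[R] (Fin n → R)) (hg : ∀ a, c • a = ∑ i, φ a i • g i)
    {ι : Type} (x : ι → R) : ∀ (l : List ι) (J : Ideal R),
      IsWeaklyRegular (R ⧸ J) (l.map x) →
      Col (algebraMap R A c) (fun i => algebraMap R A (x i)) (J.map (algebraMap R A)) l
  | [], _, _ => trivial
  | i :: l, J, h => by
    rw [List.map_cons, isWeaklyRegular_cons_iff] at h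
    refine ⟨fun z hz => ?_, ?_⟩
    · rw [← Algebra.smul_def, hg]
      refine Submodule.sum_mem _ fun s _ => ?_
      rw [Algebra.smul_def]
      refine Ideal.mul_mem_right _ _ (Ideal.mem_map_of_mem _ ?_)
      have h1 : x i * φ z s ∈ J := by
        have h2 := coord_mem ((LinearMap.proj s).comp φ) J hz
        rw [← Algebra.smul_def, map_smul] at h2
        exact h2
      have h3 : x i • (Ideal.Quotient.mk J (φ z s)) = x i • (0 : R ⧸ J) := by
        rw [smul_zero, Algebra.smul_def, Ideal.Quotient.algebraMap_eq, ← map_mul,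
          Ideal.Quotient.eq_zero_iff_mem]
        exact h1
      exact Ideal.Quotient.eq_zero_iff_mem.mp (h.1 h3)
    · have := col_of_regular g φ hg x l (J ⊔ Ideal.span {x i}) ?_
      · rwa [Ideal.map_sup, Ideal.map_span, Set.image_singleton] at this
      · let e : QuotSMulTop (x i) (R ⧸ J) ≃ₗ[R] R ⧸ (J ⊔ Ideal.span {x i}) :=
          Submodule.quotEquivOfEq _ _ (by
            rw [← Submodule.range_mkQ J, LinearMap.range_eq_map, ← Submodule.map_pointwise_smul,
              ← Submodule.ideal_span_singleton_smul, smul_eq_mul, Ideal.mul_top]) ≪≫ₗ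
          Submodule.quotientQuotientEquivQuotientSup J (Ideal.span {x i})
        exact (e.isWeaklyRegular_congr _).mp h.2

/-- In a complete local domain of characteristic `p` there are `d = dim` parameters all whose powers have
colon ideals killed by one nonzero element. -/
theorem exists_col {A : Type u} [CommRing A] [IsDomain A] [IsLocalRing A] [IsNoetherianRing A]
    [IsAdicComplete (maximalIdeal A) A] (p : ℕ) [Fact p.Prime] [CharP A p] :
    ∃ (d : ℕ) (c : A) (y : Fin d → A), ringKrullDim A = d ∧ c ≠ 0 ∧ (∀ i, y i ∈ maximalIdeal A) ∧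
      ∀ M : ℕ, M ≠ 0 → ∀ e ≤ d, Col c (fun i => y i ^ M) ⊥ ((List.finRange d).take e) := by
  obtain ⟨Λ, instΛ, n, f, hΛ, hinj, hfin, -⟩ := CohenLib.exists_finite_injective A
  have hF : IsField Λ := by
    rcases hΛ with h | ⟨hdom, hdvr, -, q, hq, hmax⟩
    · exact h
    · exfalso
      have h0 : (p : Λ) = 0 := by
        apply (MvPowerSeries.C_injective (σ := Fin n) (R := Λ))
        apply hinj
        rw [map_natCast, map_natCast, CharP.cast_eq_zero, map_zero, map_zero]
      haveI : CharP Λ p := (CharP.charP_iff_prime_eq_zero Fact.out).mpr h0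
      have hq0 : (q : Λ) ∈ maximalIdeal Λ := hmax ▸ Ideal.mem_span_singleton_self _
      by_cases hqp : q = p
      · subst hqp
        apply IsDiscreteValuationRing.not_a_field Λ
        rw [hmax, h0, Ideal.span_singleton_eq_bot]
      · have hu : IsUnit (q : Λ) := by
          rw [CharP.isUnit_natCast_iff Fact.out]
          exact fun hdvd => hqp ((Nat.prime_dvd_prime_iff_eq Fact.out hq).mp hdvd).symm
        exact (mem_nonunits_iff.mp hq0) hu
  letI : Field Λ := hF.toField
  let P := MvPowerSeries (Fin n) Λ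
  haveI : IsRegularLocalRing P := CohenLib.isRegularLocalRing_mvPowerSeries Λ n
  haveI : IsDomain P := CommAlgDim.isDomain_of_isRegularLocalRing P
  letI : Algebra P A := f.toAlgebra
  haveI : Module.Finite P A := hfin
  haveI : Algebra.IsIntegral P A := Algebra.IsIntegral.of_finite P A
  have hcm := CommAlgDim.isCM_of_isRegularLocalRing P
  obtain ⟨rs, hrs, hlen⟩ := hcm
  obtain ⟨c, N, g, φ, hc, hg⟩ := exists_free_absorbing (R := P) (A := A) hinj
  refine ⟨rs.length, algebraMap P A c, fun i => algebraMap P A (rs.get i),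
    (CommAlgDim.ringKrullDim_eq_of_integral P A hinj).trans hlen,
    fun h => hc (hinj (h.trans (map_zero _).symm)), fun i => ?_, fun M hM e he => ?_⟩
  · haveI : FaithfulSMul P A := (faithfulSMul_iff_algebraMap_injective P A).2 hinj
    have hx := CommAlgDim.mem_maximalIdeal_of_isRegular hrs _ (List.get_mem rs i)
    have hcomap : (maximalIdeal A).comap (algebraMap P A) = maximalIdeal P :=
      IsLocalRing.eq_maximalIdeal (Ideal.isMaximal_comap_of_isIntegral_of_isMaximal _)
    rw [← hcomap] at hx
    exact hx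
  · have hpow := (isRegular_map_pow (CommAlgDim.isCM_of_isRegularLocalRing P) hrs hlen hM).toIsWeaklyRegular
    have hlist : rs.map (· ^ M) = (List.finRange rs.length).map (fun i => rs.get i ^ M) := by
      conv_lhs => rw [← List.ofFn_get rs, List.ofFn_eq_map, List.map_map]
      rfl
    rw [hlist, ← List.take_append_drop e (List.finRange rs.length), List.map_append,
      isWeaklyRegular_append_iff] at hpow
    let eb : (P ⧸ (⊥ : Ideal P)) ≃ₗ[P] P := Submodule.quotEquivOfEqBot _ rfl
    have := col_of_regular (A := A) g φ hg (fun i => rs.get i ^ M) _ ⊥ ((eb.isWeaklyRegular_congr _).mpr hpow.1)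
    rw [Ideal.map_bot] at this
    convert this using 2
    rw [map_pow]

end Groth.Agent.NewIntersectLib
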