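import Mathlib

/-!
# Complexes given by matrices, homotopies for scalars, and the colon recursion

The algebra behind the intersection theorem in characteristic `p`.
-/

set_option autoImplicit false
universe u v

open Matrix

namespace Groth.Agent.NewIntersectLib

variable {A : Type u} [CommRing A]

/-- a complex of finite free modules given by matrices, `D j : A^(r (j+1)) → A^(r j)` -/
structure MatCx (A : Type u) [CommRing A] where
  r : ℕ → ℕ
  D : ∀ j, Matrix (Fin (r j)) (Fin (r (j + 1))) A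
  DD : ∀ j, D j * D (j + 1) = 0

namespace MatCx

variable (F : MatCx A)

/-- `H` is a homotopy for the scalar `a` in degrees `< n` -/
def IsHtpy (a : A) (n : ℕ) (H : ∀ j, Matrix (Fin (F.r (j + 1))) (Fin (F.r j)) A) : Prop :=
  (0 < n → F.D 0 * H 0 = a • 1) ∧ ∀ j, j + 1 < n → F.D (j + 1) * H (j + 1) + H j * F.D j = a • 1

/-- base change -/
def map {B : Type v} [CommRing B] (θ : A →+* B) : MatCx B where
  r := F.r
  D j := (F.D j).map θ
  DD j := by rw [← Matrix.map_mul, F.DD, Matrix.map_zero _ (map_zero θ)]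

theorem IsHtpy.map {B : Type v} [CommRing B] (θ : A →+* B) {a : A} {n : ℕ}
    {H : ∀ j, Matrix (Fin (F.r (j + 1))) (Fin (F.r j)) A} (h : F.IsHtpy a n H) :
    (F.map θ).IsHtpy (θ a) n (fun j => (H j).map θ) := by
  have e : ∀ k, ((a • 1 : Matrix (Fin k) (Fin k) A)).map θ = θ a • 1 := fun k => by
    ext i j
    simp [Matrix.one_apply, apply_ite θ]
  refine ⟨fun hn => ?_, fun j hj => ?_⟩
  · change (F.D 0).map θ * (H 0).map θ = _
    rw [← Matrix.map_mul, h.1 hn, e]
    rfl
  · change (F.D (j + 1)).map θ * (H (j + 1)).map θ + (H j).map θ * (F.D j).map θ = _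
    rw [← Matrix.map_mul, ← Matrix.map_mul, ← Matrix.map_add _ (map_add θ), h.2 j hj, e]
    rfl

theorem IsHtpy.add {a b : A} {n : ℕ} {H H' : ∀ j, Matrix (Fin (F.r (j + 1))) (Fin (F.r j)) A}
    (h : F.IsHtpy a n H) (h' : F.IsHtpy b n H') : F.IsHtpy (a + b) n (fun j => H j + H' j) := by
  refine ⟨fun hn => ?_, fun j hj => ?_⟩
  · rw [Matrix.mul_add, h.1 hn, h'.1 hn, add_smul]
  · rw [Matrix.mul_add, Matrix.add_mul, add_add_add_comm, h.2 j hj, h'.2 j hj, add_smul]

theorem IsHtpy.smul {a : A} (c : A) {n : ℕ} {H : ∀ j, Matrix (Fin (F.r (j + 1))) (Fin (F.r j)) A}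
    (h : F.IsHtpy a n H) : F.IsHtpy (c * a) n (fun j => c • H j) := by
  refine ⟨fun hn => ?_, fun j hj => ?_⟩
  · rw [Matrix.mul_smul, h.1 hn, smul_smul]
  · rw [Matrix.mul_smul, Matrix.smul_mul, ← smul_add, h.2 j hj, smul_smul]

/-- scalars with a homotopy in degrees `< n` form an ideal -/
def htpyIdeal (n : ℕ) : Ideal A where
  carrier := {a | ∃ H, F.IsHtpy a n H}
  zero_mem' := ⟨fun _ => 0, fun _ => by simp, fun j _ => by simp⟩
  add_mem' := fun ⟨_, h⟩ ⟨_, h'⟩ => ⟨_, h.add F h'⟩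
  smul_mem' := fun c _ ⟨_, h⟩ => ⟨_, h.smul F c⟩

theorem exists_mul_of_forall_range {p q n : ℕ} (D : Matrix (Fin p) (Fin q) A) (g : Matrix (Fin p) (Fin n) A)
    (h : ∀ l, (fun i => g i l) ∈ LinearMap.range D.mulVecLin) :
    ∃ K : Matrix (Fin q) (Fin n) A, D * K = g := by
  choose w hw using h
  refine ⟨fun i l => w l i, ?_⟩
  ext i l
  have := congrFun (hw l) i
  simpa [Matrix.mul_apply, Matrix.mulVec, dotProduct] using this

/-- Powers of a scalar killing the homology degree by degree are null homotopic. -/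
theorem exists_htpy (a : A) :
    ∀ n, (0 < n → ∃ e : ℕ, ∀ v : Fin (F.r 0) → A, a ^ e • v ∈ LinearMap.range (F.D 0).mulVecLin) →
      (∀ j, j + 1 < n → ∃ e : ℕ, ∀ v : Fin (F.r (j + 1)) → A, (F.D j).mulVec v = 0 →
        a ^ e • v ∈ LinearMap.range (F.D (j + 1)).mulVecLin) →
      ∃ M : ℕ, ∃ H, F.IsHtpy (a ^ M) n H
  | 0, _, _ => ⟨0, fun _ => 0, fun h => absurd h (lt_irrefl 0), fun j hj => absurd hj (Nat.not_lt_zero _)⟩
  | 1, h0, _ => by
    obtain ⟨e, he⟩ := h0 Nat.one_pos
    obtain ⟨K, hK⟩ := exists_mul_of_forall_range (F.D 0) (a ^ e • (1 : Matrix (Fin (F.r 0)) (Fin (F.r 0)) A))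
      (fun l => he (fun i => (1 : Matrix (Fin (F.r 0)) (Fin (F.r 0)) A) i l))
    refine ⟨e, Function.update (fun _ => 0) 0 K, fun _ => ?_, fun j hj => absurd hj (by omega)⟩
    rw [Function.update_self]
    exact hK
  | n + 2, h0, hs => by
    obtain ⟨M, H, hH⟩ := exists_htpy a (n + 1) (fun _ => h0 (by omega)) (fun j hj => hs j (by omega))
    obtain ⟨e, he⟩ := hs n (by omega)
    let g : Matrix (Fin (F.r (n + 1))) (Fin (F.r (n + 1))) A := a ^ M • 1 - H n * F.D n
    have hg : F.D n * g = 0 := by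
      cases n with
      | zero =>
        rw [Matrix.mul_sub, ← Matrix.mul_assoc, hH.1 (by omega), Matrix.mul_smul, Matrix.mul_one, Matrix.smul_mul,
          Matrix.one_mul, sub_self]
      | succ m =>
        have h1 := hH.2 m (by omega)
        rw [Matrix.mul_sub, ← Matrix.mul_assoc, eq_sub_of_add_eq h1, Matrix.sub_mul, Matrix.smul_mul,
          Matrix.one_mul, Matrix.mul_assoc (H m), F.DD, Matrix.mul_zero, sub_zero, Matrix.mul_smul, Matrix.mul_one,
          sub_self]
    obtain ⟨K, hK⟩ := exists_mul_of_forall_range (F.D (n + 1)) (a ^ e • g) (fun l => he (fun i => g i l) (by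
      funext i
      have := congrFun (congrFun hg i) l
      simpa [Matrix.mul_apply, Matrix.mulVec, dotProduct] using this))
    refine ⟨e + M, Function.update (fun j => a ^ e • H j) (n + 1) K, fun hn => ?_, fun j hj => ?_⟩
    · rw [Function.update_of_ne (by omega), Matrix.mul_smul, hH.1 (by omega), smul_smul, pow_add]
    · by_cases hjn : j = n
      · subst hjn
        rw [Function.update_self, Function.update_of_ne (by omega), hK, Matrix.smul_mul, ← smul_add,
          sub_add_cancel, smul_smul, pow_add]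
      · rw [Function.update_of_ne (by omega), Function.update_of_ne (by omega), Matrix.mul_smul, Matrix.smul_mul,
          ← smul_add, hH.2 j (by omega), smul_smul, pow_add]

end MatCx

/-- `c` kills the colon ideals of a list modulo `J` -/
def Col {ι : Type*} (c : A) (y : ι → A) : Ideal A → List ι → Prop
  | _, [] => True
  | J, i :: l => (∀ z, y i * z ∈ J → c * z ∈ J) ∧ Col c y (J ⊔ Ideal.span {y i}) l

theorem mem_of_mulVec {p q : ℕ} (D : Matrix (Fin p) (Fin q) A) (J : Ideal A) (v : Fin q → A)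
    (hv : ∀ i, v i ∈ J) (i : Fin p) : (D *ᵥ v) i ∈ J :=
  show ∑ l, D i l * v l ∈ J from
  Submodule.sum_mem _ fun l _ => Ideal.mul_mem_left _ _ (hv l)

theorem vec_decompose {p : ℕ} (J : Ideal A) (y : A) (b : Fin p → A) (hb : ∀ i, b i ∈ J ⊔ Ideal.span {y}) :
    ∃ b₀ b₁ : Fin p → A, (∀ i, b₀ i ∈ J) ∧ b = b₀ + y • b₁ := by
  have : ∀ i, ∃ u ∈ J, ∃ w : A, b i = u + y * w := fun i => by
    obtain ⟨u, hu, z, hz, huz⟩ := Submodule.mem_sup.mp (hb i)
    obtain ⟨w, rfl⟩ := Ideal.mem_span_singleton'.mp hz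
    exact ⟨u, hu, w, by rw [← huz, mul_comm]⟩
  choose u hu w hw using this
  exact ⟨u, w, hu, funext fun i => hw i⟩

/-- The colon recursion: a class with homotopy relations is killed by a power of `c` once the complex
has run out of room. -/
theorem pow_smul_mem {ι : Type*} (F : MatCx A) (c : A) (y : ι → A)
    (H : ι → ∀ j, Matrix (Fin (F.r (j + 1))) (Fin (F.r j)) A) (k : ℕ)
    (hH : ∀ i, F.IsHtpy (y i) (k + 2) (H i)) :
    ∀ (l : List ι) (J : Ideal A), Col c y J l → ∀ (j : ℕ) (m : Fin (F.r j) → A),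
      F.r (j + l.length) = 0 → j + l.length ≤ k + 1 →
      (∀ i ∈ l, ∀ s, (F.D j *ᵥ (H i j *ᵥ m)) s - y i * m s ∈ J) →
      ∃ v : Fin (F.r (j + 1)) → A, ∀ s, c ^ l.length * m s - (F.D j *ᵥ v) s ∈ J := by
  intro l
  induction l with
  | nil =>
    intro J _ j m hr _ _
    rw [List.length_nil, add_zero] at hr
    exact ⟨0, fun s => absurd s.2 (by omega)⟩
  | cons i₀ l ih =>
    intro J hcol j m hr hk hP
    simp only [List.length_cons] at hr hk
    let n := H i₀ j *ᵥ m
    have hDn : ∀ s, (F.D j *ᵥ n) s - y i₀ * m s ∈ J := hP i₀ (by simp)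
    have hDnJ : ∀ s, (F.D j *ᵥ n) s ∈ J ⊔ Ideal.span {y i₀} := fun s => by
      have := Submodule.add_mem_sup (hDn s) (Ideal.mul_mem_right (m s) _ (Ideal.mem_span_singleton_self (y i₀)))
      rwa [sub_add_cancel] at this
    have hP' : ∀ i ∈ l, ∀ s, (F.D (j + 1) *ᵥ (H i (j + 1) *ᵥ n)) s - y i * n s ∈ J ⊔ Ideal.span {y i₀} := by
      intro i _ s
      have h1 := congrArg (fun M => (M *ᵥ n) s) ((hH i).2 j (by omega))
      simp only [Matrix.add_mulVec, Matrix.smul_mulVec, Matrix.one_mulVec, Pi.add_apply, Pi.smul_apply,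
        smul_eq_mul, ← Matrix.mulVec_mulVec] at h1
      rw [← h1, sub_add_eq_sub_sub, sub_self, zero_sub]
      exact neg_mem (mem_of_mulVec _ _ _ hDnJ s)
    obtain ⟨a, ha⟩ := ih (J ⊔ Ideal.span {y i₀}) hcol.2 (j + 1) n
      (by rw [show j + 1 + l.length = j + (l.length + 1) by omega]; exact hr) (by omega) hP'
    obtain ⟨b₀, b₁, hb₀, hb⟩ := vec_decompose J (y i₀)
      (fun s => c ^ l.length * n s - (F.D (j + 1) *ᵥ a) s) ha
    refine ⟨c • b₁, fun s => ?_⟩
    have hDD : F.D j *ᵥ (F.D (j + 1) *ᵥ a) = 0 := by rw [Matrix.mulVec_mulVec, F.DD, Matrix.zero_mulVec]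
    have h2 : c ^ l.length * (F.D j *ᵥ n) s = (F.D j *ᵥ b₀) s + y i₀ * (F.D j *ᵥ b₁) s := by
      have hb' : c ^ l.length • n = F.D (j + 1) *ᵥ a + (b₀ + y i₀ • b₁) := by
        rw [← hb]
        funext t
        simp
      have := congrArg (fun v => (F.D j *ᵥ v) s) hb'
      simpa [Matrix.mulVec_add, Matrix.mulVec_smul, hDD] using this
    have h3 : y i₀ * (c ^ l.length * m s - (F.D j *ᵥ b₁) s) ∈ J := by
      have h4 := Ideal.mul_mem_left _ (c ^ l.length) (hDn s)
      rw [mul_sub, h2] at h4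
      have h5 := sub_mem (mem_of_mulVec (F.D j) J b₀ hb₀ s) h4
      convert h5 using 1
      ring
    have h6 := hcol.1 _ h3
    convert h6 using 1
    simp [Matrix.mulVec_smul, pow_succ]
    ring

end Groth.Agent.NewIntersectLib
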